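import Cfsg.Agent.TransposeConj.Basic
import Mathlib

set_option autoImplicit false
set_option linter.style.haveILetI false

/-!
At least `q^n` classes in `Sp(2n,q)`: for every monic `g` of degree `n` an element `x` such that `x + x⁻¹` has
characteristic polynomial `g^2`.
-/

namespace CfsgLib.ClassCountSp

open Polynomial Matrix
open scoped Classical

variable {F : Type*} [Field F] {n : ℕ}

theorem exists_companion (g : F[X]) (hg : g.Monic) (hn : g.natDegree = n) :
    ∃ d S : Matrix (Fin n) (Fin n) F, d.charpoly = g ∧ Sᵀ = S ∧ IsUnit S.det ∧ (S * d)ᵀ = S * d := by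
  subst hn
  obtain ⟨μ, hμ⟩ := TransposeConj.exists_functional g hg.ne_zero
  let μ' : AdjoinRoot g →ₗ[F] F := μ
  have hμ' : ∀ x : AdjoinRoot g, x ≠ 0 → ∃ y, μ' (x * y) ≠ 0 := hμ
  let pb := AdjoinRoot.powerBasis' hg
  let b : Module.Basis (Fin g.natDegree) F (AdjoinRoot g) := pb.basis.reindex (finCongr (AdjoinRoot.powerBasis'_dim hg))
  let r := AdjoinRoot.root g
  let d := Algebra.leftMulMatrix b r
  let S : Matrix (Fin g.natDegree) (Fin g.natDegree) F := Matrix.of fun i j => μ' (b i * b j)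
  haveI : Module.Finite F (AdjoinRoot g) := pb.finite
  have hd : d.charpoly = g := by
    have h : d.charpoly = (LinearMap.mulLeft F r).charpoly := LinearMap.charpoly_toMatrix _ b
    rw [h, ← LinearMap.charpoly_toMatrix (LinearMap.mulLeft F r) pb.basis]
    show (Algebra.leftMulMatrix pb.basis r).charpoly = g
    rw [show r = pb.gen from (AdjoinRoot.powerBasis'_gen hg).symm, charpoly_leftMulMatrix,
      AdjoinRoot.powerBasis'_gen, AdjoinRoot.minpoly_root hg.ne_zero, hg.leadingCoeff, inv_one, C_1, mul_one]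
  have hSd : ∀ i j, (S * d) i j = μ' (b i * (r * b j)) := by
    intro i j
    conv_rhs => rw [← b.sum_repr (r * b j), Finset.mul_sum, map_sum]
    rw [Matrix.mul_apply]
    refine Finset.sum_congr rfl fun k _ => ?_
    rw [mul_smul_comm, map_smul, smul_eq_mul, mul_comm]
    congr 1
    exact Algebra.leftMulMatrix_eq_repr_mul b r k j
  refine ⟨d, S, hd, ?_, ?_, ?_⟩
  · ext i j
    show μ' (b j * b i) = μ' (b i * b j)
    rw [mul_comm]
  · rw [isUnit_iff_ne_zero]
    intro h0
    obtain ⟨a, hane, ha⟩ := Matrix.exists_vecMul_eq_zero_iff.2 h0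
    set x := ∑ i, a i • b i with hx
    have hxj : ∀ j, μ' (x * b j) = 0 := by
      intro j
      rw [hx, Finset.sum_mul, map_sum]
      have := congrFun ha j
      rw [vecMul, dotProduct] at this
      simpa [S, smul_mul_assoc] using this
    have hx0 : x = 0 := by
      by_contra hne
      obtain ⟨y, hy⟩ := hμ' x hne
      apply hy
      rw [← b.sum_repr y, Finset.mul_sum, map_sum]
      refine Finset.sum_eq_zero fun j _ => ?_
      rw [mul_smul_comm, map_smul, hxj, smul_zero]
    exact hane (funext fun i => Fintype.linearIndependent_iff.1 b.linearIndependent a hx0 i)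
  · ext i j
    rw [Matrix.transpose_apply, hSd, hSd]
    congr 1
    ring

theorem exists_elt (g : F[X]) (hg : g.Monic) (hn : g.natDegree = n) :
    ∃ x : Matrix.symplecticGroup (Fin n) F,
      ((x : Matrix (Fin n ⊕ Fin n) (Fin n ⊕ Fin n) F) +
        ((x⁻¹ : Matrix.symplecticGroup (Fin n) F) : Matrix (Fin n ⊕ Fin n) (Fin n ⊕ Fin n) F)).charpoly = g * g := by
  obtain ⟨d, S, hd, hS, hSu, hSd⟩ := exists_companion g hg hn
  have hSd' : dᵀ * S = S * d := by
    rw [transpose_mul, hS] at hSd
    exact hSd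
  have hSi : (S⁻¹)ᵀ = S⁻¹ := by rw [transpose_nonsing_inv, hS]
  have hmem : fromBlocks 0 (-S) S⁻¹ d ∈ Matrix.symplecticGroup (Fin n) F := by
    rw [SymplecticGroup.fromBlocks_mem_iff]
    refine ⟨by simp, ?_, ?_⟩
    · rw [transpose_neg, hS, neg_mul, mul_neg, hSd']
    · rw [transpose_zero, zero_mul, zero_sub, hSi, mul_neg, neg_neg, Matrix.nonsing_inv_mul _ hSu]
  refine ⟨⟨_, hmem⟩, ?_⟩
  have hinv : (((⟨_, hmem⟩ : Matrix.symplecticGroup (Fin n) F)⁻¹ : Matrix.symplecticGroup (Fin n) F) :
      Matrix (Fin n ⊕ Fin n) (Fin n ⊕ Fin n) F) = fromBlocks dᵀ S (-S⁻¹) 0 := by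
    rw [SymplecticGroup.coe_inv]
    show -Matrix.J (Fin n) F * (fromBlocks 0 (-S) S⁻¹ d)ᵀ * Matrix.J (Fin n) F = _
    rw [Matrix.J, fromBlocks_neg, fromBlocks_transpose, fromBlocks_multiply, fromBlocks_multiply]
    simp [hS, hSi]
  rw [hinv]
  show (fromBlocks 0 (-S) S⁻¹ d + fromBlocks dᵀ S (-S⁻¹) 0).charpoly = _
  rw [fromBlocks_add, zero_add, neg_add_cancel, add_neg_cancel, add_zero, Matrix.charpoly_fromBlocks_zero₂₁,
    Matrix.charpoly_transpose, hd]

variable [Fintype F]

/-- `q^n ≤ k(Sp(2n,q))` for odd `q`. -/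
theorem card_lower (h2 : (2 : F) ≠ 0) :
    Fintype.card F ^ n ≤ Nat.card (ConjClasses (Matrix.symplecticGroup (Fin n) F)) := by
  haveI : Finite (ConjClasses (Matrix.symplecticGroup (Fin n) F)) :=
    Finite.of_surjective _ (ConjClasses.mk_surjective)
  let pol : (Fin n → F) → F[X] := fun a => X ^ n + ((degreeLTEquiv F n).symm a : F[X])
  have hlt : ∀ a, ((degreeLTEquiv F n).symm a : F[X]).degree < (n : WithBot ℕ) := fun a =>
    mem_degreeLT.1 ((degreeLTEquiv F n).symm a).2
  have hmon : ∀ a, (pol a).Monic := fun a => monic_X_pow_add (hlt a)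
  have hdeg : ∀ a, (pol a).natDegree = n := by
    intro a
    refine natDegree_eq_of_degree_eq_some ?_
    rw [degree_add_eq_left_of_degree_lt (by rw [degree_X_pow]; exact hlt a), degree_X_pow]
  choose x hx using fun a => exists_elt (pol a) (hmon a) (hdeg a)
  have hinj : Function.Injective fun a => ConjClasses.mk (x a) := by
    intro a b e
    obtain ⟨c, hc⟩ := isConj_iff.1 (ConjClasses.mk_eq_mk_iff_isConj.1 e)
    have hchar : ((x b : Matrix (Fin n ⊕ Fin n) (Fin n ⊕ Fin n) F) +
        (((x b)⁻¹ : Matrix.symplecticGroup (Fin n) F) : Matrix (Fin n ⊕ Fin n) (Fin n ⊕ Fin n) F)).charpoly =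
        ((x a : Matrix (Fin n ⊕ Fin n) (Fin n ⊕ Fin n) F) +
        (((x a)⁻¹ : Matrix.symplecticGroup (Fin n) F) : Matrix (Fin n ⊕ Fin n) (Fin n ⊕ Fin n) F)).charpoly := by
      rw [← hc, _root_.mul_inv_rev, _root_.mul_inv_rev, inv_inv, ← mul_assoc c]
      simp only [Submonoid.coe_mul]
      rw [← add_mul, ← mul_add]
      rw [Matrix.charpoly_mul_comm, ← mul_assoc, ← Submonoid.coe_mul, inv_mul_cancel, OneMemClass.coe_one, one_mul]
    rw [hx, hx] at hchar
    rcases mul_self_eq_mul_self_iff.1 hchar with h | h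
    · exact ((degreeLTEquiv F n).symm.injective (Subtype.ext (add_left_cancel h))).symm
    · exfalso
      have := congrArg Polynomial.leadingCoeff h
      rw [leadingCoeff_neg, (hmon a).leadingCoeff, (hmon b).leadingCoeff] at this
      exact h2 (by linear_combination this)
  have := Nat.card_le_card_of_injective _ hinj
  rw [Nat.card_fun, Nat.card_fin, Nat.card_eq_fintype_card] at this
  exact this

end CfsgLib.ClassCountSp
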