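import Mathlib

set_option autoImplicit false

/-!
Arithmetic of the numbers `W q i m` for the symplectic groups: weighted partitions of `m` into parts at least `i`, a
part size used `D` times weighing `c q D`, the coefficient of `t^D` in `(1+t)^4/(1-qt)`.
-/

namespace CfsgLib.ClassCountSp

/-- The coefficient of `t^D` in `(1+t)^4/(1-qt)`. -/
def c (q D : ℕ) : ℕ := ∑ j ∈ Finset.range 5, if j ≤ D then Nat.choose 4 j * q ^ (D - j) else 0

/-- Weighted partitions of `m` into parts `≥ i`. -/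
def W (q i m : ℕ) : ℕ :=
  if m = 0 then 1
  else if i = 0 ∨ m < i then 0
  else ∑ d ∈ Finset.range (m / i + 1), c q d * W q (i + 1) (m - d * i)
termination_by m + 1 - i
decreasing_by omega

variable {q : ℕ}

theorem c_zero : c q 0 = 1 := by simp [c, Finset.sum_range_succ]

theorem W_zero (i : ℕ) : W q i 0 = 1 := by rw [W]; simp

theorem W_eq_zero {i m : ℕ} (hm : m ≠ 0) (h : m < i) : W q i m = 0 := by rw [W]; simp [hm, h]

theorem W_rec {i : ℕ} (hi : 1 ≤ i) (m : ℕ) :
    W q i m = ∑ d ∈ Finset.range (m / i + 1), c q d * W q (i + 1) (m - d * i) := by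
  by_cases hm : m = 0
  · subst hm; simp [W_zero, c_zero]
  by_cases h : m < i
  · rw [W_eq_zero hm h, Nat.div_eq_of_lt h]
    simp [W_eq_zero hm (show m < i + 1 by omega)]
  conv_lhs => rw [W]
  rw [if_neg hm, if_neg (by omega)]

/-- Partial sums of `∑ W q i j q^{-j}`. -/
def S (q i M : ℕ) : ℚ := ∑ j ∈ Finset.range (M + 1), (W q i j : ℚ) / (q : ℚ) ^ j

theorem S_rec (hq : 1 ≤ q) {i : ℕ} (hi : 1 ≤ i) (M : ℕ) :
    S q i M = ∑ d ∈ Finset.range (M / i + 1), (c q d : ℚ) / (q : ℚ) ^ (d * i) * S q (i + 1) (M - d * i) := by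
  have hq0 : (q : ℚ) ≠ 0 := by exact_mod_cast (by omega : q ≠ 0)
  unfold S
  simp only [Finset.mul_sum]
  rw [Finset.sum_sigma']
  conv_lhs =>
    arg 2; ext j
    rw [W_rec hi, Nat.cast_sum, Finset.sum_div]
  rw [Finset.sum_sigma']
  refine Finset.sum_nbij' (fun x => ⟨x.2, x.1 - x.2 * i⟩) (fun y => ⟨y.2 + y.1 * i, y.1⟩) ?_ ?_ ?_ ?_ ?_
  · rintro ⟨j, d⟩ h
    simp only [Finset.coe_sigma, Set.mem_sigma_iff, Finset.mem_sigma, Finset.mem_range, Finset.coe_range, Set.mem_Iio] at h ⊢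
    have h1 : j / i ≤ M / i := Nat.div_le_div_right (by omega)
    have h2 : d * i ≤ j := le_trans (Nat.mul_le_mul_right i (show d ≤ j / i by omega)) (Nat.div_mul_le_self j i)
    omega
  · rintro ⟨d, l⟩ h
    simp only [Finset.coe_sigma, Set.mem_sigma_iff, Finset.mem_sigma, Finset.mem_range, Finset.coe_range, Set.mem_Iio] at h ⊢
    have h2 : d * i ≤ M := le_trans (Nat.mul_le_mul_right i (show d ≤ M / i by omega)) (Nat.div_mul_le_self M i)
    have h3 : d ≤ (l + d * i) / i := by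
      rw [Nat.add_mul_div_right _ _ (by omega : 0 < i)]; exact Nat.le_add_left _ _
    omega
  · rintro ⟨j, d⟩ h
    simp only [Finset.coe_sigma, Set.mem_sigma_iff, Finset.mem_sigma, Finset.mem_range, Finset.coe_range, Set.mem_Iio] at h
    have h2 : d * i ≤ j := le_trans (Nat.mul_le_mul_right i (show d ≤ j / i by omega)) (Nat.div_mul_le_self j i)
    simp [Nat.sub_add_cancel h2]
  · rintro ⟨d, l⟩ h
    simp
  · rintro ⟨j, d⟩ h
    simp only [Finset.mem_sigma, Finset.mem_range] at h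
    have h2 : d * i ≤ j := le_trans (Nat.mul_le_mul_right i (show d ≤ j / i by omega)) (Nat.div_mul_le_self j i)
    simp only [Nat.cast_mul]
    rw [div_mul_div_comm, ← pow_add, Nat.add_sub_cancel' h2]

theorem c_div (hq : 1 ≤ q) {i : ℕ} (hi : 1 ≤ i) (d : ℕ) :
    (c q d : ℚ) / (q : ℚ) ^ (d * i) = ∑ j ∈ Finset.range 5,
      if j ≤ d then (Nat.choose 4 j : ℚ) * ((1 / q : ℚ) ^ i) ^ j * ((1 / q : ℚ) ^ (i - 1)) ^ (d - j) else 0 := by
  have hq0 : (q : ℚ) ≠ 0 := by exact_mod_cast (by omega : q ≠ 0)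
  rw [c, Nat.cast_sum, Finset.sum_div]
  refine Finset.sum_congr rfl fun j _ => ?_
  split_ifs with h
  · obtain ⟨r, rfl⟩ := Nat.exists_eq_add_of_le h
    obtain ⟨i, rfl⟩ : ∃ i', i = i' + 1 := ⟨i - 1, by omega⟩
    simp only [Nat.add_sub_cancel_left, Nat.add_sub_cancel, Nat.cast_mul, Nat.cast_pow]
    rw [one_div, inv_pow, inv_pow, inv_pow, inv_pow, ← pow_mul, ← pow_mul,
      show (j + r) * (i + 1) = (i + 1) * j + (i * r + r) by ring, pow_add, pow_add]
    field_simp
  · simp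

/-- The sum of one level. -/
theorem sum_c_le (hq : 2 ≤ q) {i : ℕ} (hi : 2 ≤ i) (N : ℕ) :
    ∑ d ∈ Finset.range N, (c q d : ℚ) / (q : ℚ) ^ (d * i) ≤
      (1 + (1 / q : ℚ) ^ i) ^ 4 / (1 - (1 / q : ℚ) ^ (i - 1)) := by
  have hq' : (2 : ℚ) ≤ q := by exact_mod_cast hq
  rw [Finset.sum_congr rfl fun d _ => c_div (by omega) (by omega) d]
  set z : ℚ := (1 / q : ℚ) ^ i
  set y : ℚ := (1 / q : ℚ) ^ (i - 1)
  have hz0 : 0 ≤ z := by positivity
  have hy0 : 0 ≤ y := by positivity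
  have hy1 : y < 1 := pow_lt_one₀ (by positivity) (by rw [div_lt_one (by positivity)]; linarith) (by omega)
  rw [Finset.sum_comm, add_comm, add_pow, Finset.sum_div]
  refine Finset.sum_le_sum fun j _ => ?_
  rw [← Finset.sum_filter, one_pow, mul_one, mul_comm (z ^ j) _]
  rw [Finset.sum_congr rfl fun d _ => rfl, ← Finset.mul_sum, le_div_iff₀ (by linarith), mul_assoc]
  refine mul_le_of_le_one_right (by positivity) ?_
  have hfil : (Finset.range N).filter (fun d => j ≤ d) = Finset.Ico j N := by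
    ext d; simp; omega
  rw [hfil, Finset.sum_Ico_eq_sum_range]
  simp only [Nat.add_sub_cancel_left]
  rw [geom_sum_mul_neg]
  linarith [pow_nonneg hy0 (N - j)]

theorem S_nonneg (i M : ℕ) : 0 ≤ S q i M := Finset.sum_nonneg fun _ _ => by positivity

/-- One step of the product bound. -/
theorem S_step (hq : 2 ≤ q) {i : ℕ} (hi : 2 ≤ i) {B : ℚ} (hB : ∀ M, S q (i + 1) M ≤ B) (M : ℕ) :
    S q i M ≤ (1 + (1 / q : ℚ) ^ i) ^ 4 / (1 - (1 / q : ℚ) ^ (i - 1)) * B := by
  have hB0 : 0 ≤ B := le_trans (S_nonneg _ _) (hB 0)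
  rw [S_rec (by omega) (show 1 ≤ i by omega)]
  refine (Finset.sum_le_sum fun d _ => mul_le_mul_of_nonneg_left (hB _) (by positivity)).trans ?_
  rw [← Finset.sum_mul]
  exact mul_le_mul_of_nonneg_right (sum_c_le hq hi _) hB0

/-- The tail of the product: `C y < 1` with `C = (q+4)/(q-1)`, `y = q^{1-i}`. -/
theorem S_tail (hq : 2 ≤ q) : ∀ (N i M : ℕ), 2 ≤ i → M + 1 - i ≤ N →
    ((q : ℚ) + 4) / (q - 1) * (1 / q : ℚ) ^ (i - 1) < 1 →
    S q i M ≤ 1 / (1 - ((q : ℚ) + 4) / (q - 1) * (1 / q : ℚ) ^ (i - 1)) := by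
  intro N
  have hq' : (2 : ℚ) ≤ q := by exact_mod_cast hq
  set C : ℚ := ((q : ℚ) + 4) / (q - 1) with hC
  have hC0 : 0 ≤ C := div_nonneg (by linarith) (by linarith)
  have hC1 : C * ((q : ℚ) - 1) = q + 4 := div_mul_cancel₀ _ (by linarith)
  have hbase : ∀ i M : ℕ, 2 ≤ i → M < i → C * (1 / q : ℚ) ^ (i - 1) < 1 →
      S q i M ≤ 1 / (1 - C * (1 / q : ℚ) ^ (i - 1)) := by
    intro i M hi hM hlt
    have : S q i M = 1 := by
      unfold S
      rw [Finset.sum_eq_single 0]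
      · simp [W_zero]
      · intro j hj hj0
        rw [Finset.mem_range] at hj
        simp [W_eq_zero (q := q) hj0 (show j < i by omega)]
      · simp
    rw [this, le_div_iff₀ (by linarith)]
    have : 0 ≤ C * (1 / q : ℚ) ^ (i - 1) := by positivity
    linarith
  induction N with
  | zero => intro i M hi hN; exact hbase i M hi (by omega)
  | succ N ih =>
    intro i M hi hN hlt
    by_cases hlt' : M < i
    · exact hbase i M hi hlt' hlt
    push Not at hlt'
    set x : ℚ := 1 / q with hx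
    set y : ℚ := x ^ (i - 1) with hy
    have hx0 : 0 ≤ x := by rw [hx]; positivity
    have hx1 : x < 1 := by rw [hx, div_lt_one (by positivity)]; linarith
    have hy0 : 0 ≤ y := pow_nonneg hx0 _
    have hy1 : y < 1 := pow_lt_one₀ hx0 hx1 (by omega)
    have hxi : x ^ i = x * y := by rw [hy, ← pow_succ', Nat.sub_add_cancel (by omega)]
    set z := x * y with hz
    have hz0 : 0 ≤ z := mul_nonneg hx0 hy0
    have hzy : z ≤ y := mul_le_of_le_one_left hy0 hx1.le
    have hlt2 : C * z < 1 := lt_of_le_of_lt (mul_le_mul_of_nonneg_left hzy hC0) hlt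
    rw [S_rec (by omega) (show 1 ≤ i by omega)]
    have hB : ∀ d ∈ Finset.range (M / i + 1), S q (i + 1) (M - d * i) ≤ 1 / (1 - C * z) := by
      intro d _
      have h1 := ih (i + 1) (M - d * i) (by omega) (by omega) (by rw [Nat.add_sub_cancel, hxi]; exact hlt2)
      rwa [Nat.add_sub_cancel, hxi] at h1
    refine (Finset.sum_le_sum fun d hd => mul_le_mul_of_nonneg_left (hB d hd) (by positivity)).trans ?_
    rw [← Finset.sum_mul]
    have h1C : 0 < 1 - C * y := by linarith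
    have h2C : 0 < 1 - C * z := by linarith
    have h1y : 0 < 1 - y := by linarith
    have hs := sum_c_le hq hi (M / i + 1)
    rw [hxi, ← hx, ← hy] at hs
    refine (mul_le_mul_of_nonneg_right hs (by positivity)).trans ?_
    rw [div_mul_div_comm, mul_one, div_le_div_iff₀ (mul_pos h1y h2C) h1C, one_mul]
    -- `(1+z)^4 (1-4z) ≤ 1`, and `(1-y)(1-4z)(1-Cz) ≥ 1 - Cy`
    have hxq : x * q = 1 := by rw [hx]; field_simp
    have hCx : C * (1 - x) = 1 + 4 * x := by linear_combination x * hC1 - C * hxq + hxq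
    have h4 : (1 + z) ^ 4 * (1 - 4 * z) ≤ 1 := by
      nlinarith [pow_nonneg hz0 2, pow_nonneg hz0 3, pow_nonneg hz0 4, pow_nonneg hz0 5]
    have h4z : 4 * z ≤ C * y := by
      nlinarith [mul_le_mul_of_nonneg_right (show 4 * x ≤ C by nlinarith) hy0]
    have hlow : 1 - C * y ≤ (1 - y) * (1 - C * z) * (1 - 4 * z) := by
      have e : C * y = y + C * z + 4 * z := by rw [hz]; linear_combination y * hCx
      have a1 : 0 ≤ C * z := mul_nonneg hC0 hz0
      have a2 : 1 - (y + C * z) ≤ (1 - y) * (1 - C * z) := by nlinarith [mul_nonneg hy0 a1]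
      nlinarith [mul_le_mul_of_nonneg_right a2 (show 0 ≤ 1 - 4 * z by linarith)]
    have hz4 : 0 ≤ (1 + z) ^ 4 := by positivity
    nlinarith [mul_le_mul_of_nonneg_left hlow hz4, mul_le_mul_of_nonneg_left h4 (mul_pos h1y h2C).le]

theorem W_one_le (hq : 3 ≤ q) (n : ℕ) : 5 * W q 1 n ≤ 54 * q ^ n := by
  have hq' : (3 : ℚ) ≤ q := by exact_mod_cast hq
  set x : ℚ := 1 / q with hx
  have hx0 : 0 ≤ x := by rw [hx]; positivity
  have h2 : ∃ B : ℚ, (∀ M, S q 2 M ≤ B) ∧ (1 + x) ^ 4 * B ≤ 54 / 5 := by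
    rcases eq_or_lt_of_le hq with rfl | hq4
    · have h5 : ∀ M, S 3 5 M ≤ 162 / 155 := fun M =>
        (S_tail (by norm_num) (M + 1) 5 M (by norm_num) (by omega) (by norm_num)).trans (by norm_num)
      have h4 := S_step (q := 3) (by norm_num) (by norm_num : 2 ≤ 4) h5
      have h3 := S_step (q := 3) (by norm_num) (by norm_num : 2 ≤ 3) h4
      have h2 := S_step (q := 3) (by norm_num) (by norm_num : 2 ≤ 2) h3
      exact ⟨_, h2, by rw [hx]; norm_num⟩
    · have hq5 : (4 : ℚ) ≤ q := by exact_mod_cast hq4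
      have hC : ((q : ℚ) + 4) / (q - 1) ≤ 8 / 3 := by rw [div_le_iff₀ (by linarith)]; linarith
      have hC0 : 0 ≤ ((q : ℚ) + 4) / (q - 1) := div_nonneg (by linarith) (by linarith)
      have hxle : x ≤ 1 / 4 := one_div_le_one_div_of_le (by norm_num) hq5
      have hCy : ((q : ℚ) + 4) / (q - 1) * x ^ 2 ≤ 1 / 6 :=
        (mul_le_mul hC (pow_le_pow_left₀ hx0 hxle 2) (by positivity) (by norm_num)).trans (by norm_num)
      have h3 : ∀ M, S q 3 M ≤ 6 / 5 := fun M => by
        refine (S_tail (by omega) (M + 1) 3 M (by norm_num) (by omega) ?_).trans ?_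
        · exact lt_of_le_of_lt hCy (by norm_num)
        · rw [div_le_iff₀ (by linarith)]; linarith
      refine ⟨_, S_step (by omega) le_rfl h3, ?_⟩
      have e1 : (1 + x ^ 2) ^ 4 / (1 - x ^ (2 - 1)) ≤ (17 / 16) ^ 4 / (3 / 4) := by
        refine div_le_div₀ (by norm_num) (pow_le_pow_left₀ (by positivity) ?_ 4) (by norm_num) ?_
        · nlinarith
        · show (3 : ℚ) / 4 ≤ 1 - x ^ 1
          linarith [pow_one x]
      have e2 : (1 + x) ^ 4 ≤ (5 / 4) ^ 4 := pow_le_pow_left₀ (by positivity) (by linarith) 4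
      calc (1 + x) ^ 4 * ((1 + x ^ 2) ^ 4 / (1 - x ^ (2 - 1)) * (6 / 5))
          ≤ (5 / 4) ^ 4 * ((17 / 16) ^ 4 / (3 / 4) * (6 / 5)) :=
            mul_le_mul e2 (mul_le_mul_of_nonneg_right e1 (by norm_num))
              (mul_nonneg (div_nonneg (by positivity) (by simp only [show (2 : ℕ) - 1 = 1 from rfl, pow_one]; linarith)) (by norm_num)) (by norm_num)
        _ ≤ 54 / 5 := by norm_num
  obtain ⟨B, hB, hfin⟩ := h2
  have hc : ∀ d, (c q d : ℚ) / (q : ℚ) ^ d ≤ (1 + x) ^ 4 := by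
    intro d
    have h := c_div (q := q) (by omega) le_rfl d
    rw [mul_one] at h
    rw [h, add_comm (1 : ℚ), add_pow]
    refine Finset.sum_le_sum fun j _ => ?_
    split_ifs
    · simp only [pow_one, Nat.sub_self, pow_zero, one_pow, mul_one]; rw [mul_comm]
    · positivity
  have hW : (W q 1 n : ℚ) ≤ (q : ℚ) ^ n * ((1 + x) ^ 4 * S q 2 n) := by
    rw [W_rec le_rfl, Nat.div_one, S, ← Finset.sum_range_reflect (fun j => (W q 2 j : ℚ) / (q : ℚ) ^ j)]
    push_cast
    simp only [Finset.mul_sum]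
    refine Finset.sum_le_sum fun d hd => ?_
    rw [Finset.mem_range] at hd
    rw [mul_one]
    have hqn : (q : ℚ) ^ n = q ^ (n - d) * q ^ d := by rw [← pow_add]; congr 1; omega
    have hqd : (0 : ℚ) < (q : ℚ) ^ d := by positivity
    have hqm : (0 : ℚ) < (q : ℚ) ^ (n - d) := by positivity
    calc (c q d : ℚ) * (W q 2 (n - d) : ℚ) = (q : ℚ) ^ n * ((c q d : ℚ) / (q : ℚ) ^ d * ((W q 2 (n - d) : ℚ) / (q : ℚ) ^ (n - d))) := by
          rw [hqn]; field_simp
      _ ≤ _ := mul_le_mul_of_nonneg_left (mul_le_mul_of_nonneg_right (hc d) (by positivity)) (by positivity)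
  have : (5 : ℚ) * (W q 1 n : ℚ) ≤ 54 * (q : ℚ) ^ n := by
    have h4 : (1 + x) ^ 4 * S q 2 n ≤ 54 / 5 :=
      le_trans (mul_le_mul_of_nonneg_left (hB n) (by positivity)) hfin
    nlinarith [mul_le_mul_of_nonneg_left h4 (show (0 : ℚ) ≤ (q : ℚ) ^ n by positivity)]
  exact_mod_cast this

end CfsgLib.ClassCountSp
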