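import Cfsg.Agent.ClassCountSp.Lift
import Cfsg.Agent.NoOffender.Idempotent

set_option autoImplicit false
set_option linter.style.haveILetI false

/-!
Symmetric elements of the centraliser of an isometry are congruent inside the centraliser as soon as their
block determinants at `±1` agree up to squares.
-/

namespace CfsgLib.ClassCountSp

open Polynomial Matrix CfsgLib.InvNorm
open CfsgLib.ClassCount (Item IsItem Decomp)
open scoped Classical

variable {F : Type*} [Field F] {N : ℕ} {J A : Matrix (Fin N) (Fin N) F} (d : Decomp A)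

theorem cst_φ (c : F) {y : Matrix (Fin N) (Fin N) F} (hy : Commute y A) (hE : E d c y = 0) (i : Rt d c)
    (v : Fin N → F) : cst d i (d.φ (y *ᵥ v) i.1) = 0 := by
  obtain ⟨f, -, hv⟩ := exists_rep d v
  rw [hv, mulVec_sum, map_sum, Finset.sum_apply, map_sum]
  refine Finset.sum_eq_zero fun j _ => ?_
  rw [mulVec_mulVec, (commute_aeval hy _).eq, ← mulVec_mulVec, ClassCount.map_aeval, map_mul]
  by_cases hj : d.P j = X - C c
  · rw [show cst d i (d.φ (y *ᵥ gen d j) i.1) = E d c y i ⟨j, hj⟩ from rfl, hE, Matrix.zero_apply, mul_zero]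
  · rw [cst_comp_zero d hy i j (Or.inl hj), mul_zero]

/-- An element of the centraliser with vanishing multiplicity matrices maps into the image of `A² - 1`. -/
theorem exists_preimage (h2 : (2 : F) ≠ 0) {y : Matrix (Fin N) (Fin N) F} (hy : Commute y A)
    (hE : ∀ c : F, c * c = 1 → E d c y = 0) (v : Fin N → F) :
    ∃ v', y *ᵥ v = aeval A (X ^ 2 - 1 : F[X]) *ᵥ v' := by
  have hcomp : ∀ i, ∃ a : AdjoinRoot (d.P i ^ d.e i),
      d.φ (y *ᵥ v) i = AdjoinRoot.mk _ (X ^ 2 - 1 : F[X]) * a := by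
    intro i
    obtain ⟨f, hf⟩ := AdjoinRoot.mk_surjective (d.φ (y *ᵥ v) i)
    rw [← hf]
    by_cases hroot : ∃ c : F, c * c = 1 ∧ d.P i = X - C c
    · obtain ⟨c, hcc, hP⟩ := hroot
      have h0 := cst_φ d c hy (hE c hcc) ⟨i, hP⟩ v
      rw [← hf, cst_mk] at h0
      obtain ⟨g, hg⟩ := dvd_iff_isRoot.2 h0
      obtain ⟨a, b, hab⟩ : IsCoprime ((X - C c) ^ d.e i) (X + C c) := by
        have h := Polynomial.isCoprime_X_sub_C_of_isUnit_sub (a := c) (b := -c) (isUnit_iff_ne_zero.2 (by
          rw [sub_neg_eq_add, ← two_mul]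
          exact mul_ne_zero h2 (fun h0 => by rw [h0, mul_zero] at hcc; exact zero_ne_one hcc)))
        rw [map_neg, sub_neg_eq_add] at h
        exact h.pow_left
      refine ⟨AdjoinRoot.mk _ (b * g), ?_⟩
      rw [← map_mul, AdjoinRoot.mk_eq_mk, hP]
      have hC : C c * C c = 1 := by rw [← C_mul, hcc, C_1]
      exact ⟨(X - C c) * g * a, by rw [hg]; linear_combination (-(b * g)) * hC - (X - C c) * g * hab⟩
    · have hirr := (d.item i).irr
      have hnd : ¬ d.P i ∣ (X ^ 2 - 1 : F[X]) := by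
        intro hdvd
        rw [show (X ^ 2 - 1 : F[X]) = (X - C 1) * (X - C (-1)) by simp; ring] at hdvd
        rcases hirr.prime.dvd_or_dvd hdvd with h | h
        · exact hroot ⟨1, one_mul 1, eq_of_monic_of_associated (d.item i).monic (monic_X_sub_C 1)
            (hirr.associated_of_dvd (irreducible_X_sub_C 1) h)⟩
        · exact hroot ⟨-1, by norm_num, eq_of_monic_of_associated (d.item i).monic (monic_X_sub_C (-1))
            (hirr.associated_of_dvd (irreducible_X_sub_C (-1)) h)⟩
      obtain ⟨a, b, hab⟩ : IsCoprime (d.P i ^ d.e i) (X ^ 2 - 1 : F[X]) :=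
        (hirr.coprime_iff_not_dvd.2 hnd).pow_left
      refine ⟨AdjoinRoot.mk _ (b * f), ?_⟩
      rw [← map_mul, AdjoinRoot.mk_eq_mk]
      exact ⟨a * f, by linear_combination (-f) * hab⟩
  choose a ha using hcomp
  refine ⟨d.φ.symm a, d.φ.injective (funext fun i => ?_)⟩
  rw [ClassCount.map_aeval, LinearEquiv.apply_symm_apply, ha]

theorem E_zero (c : F) : E d c (0 : Matrix (Fin N) (Fin N) F) = 0 := by
  ext i j; simp [E]

theorem rho_zero (c : F) (e : ℕ) : rho d c e (0 : Matrix (Fin N) (Fin N) F) = 0 := by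
  ext i j; simp [rho, Matrix.toSquareBlock_def, E_zero]

/-- Vanishing blocks make the multiplicity matrices strictly triangular. -/
theorem E_pow_eq_zero {c : F} {x : Matrix (Fin N) (Fin N) F} (hx : Commute x A)
    (h : ∀ e, rho d c e x = 0) {K : ℕ} (hK : ∀ i, d.e i ≤ K) : E d c (x ^ (K + 1)) = 0 := by
  have hs : ∀ (m : ℕ) (i j : Rt d c), d.e j.1 < d.e i.1 + m → E d c (x ^ m) i j = 0 := by
    intro m
    induction m with
    | zero => intro i j hij; exact E_apply_zero d ((Commute.one_left A).trans rfl) (by simpa using hij)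
    | succ m ih =>
      intro i j hij
      rw [pow_succ, E_mul d (hx.pow_left m), Matrix.mul_apply]
      refine Finset.sum_eq_zero fun k _ => ?_
      rcases lt_trichotomy (d.e j.1) (d.e k.1) with h' | h' | h'
      · rw [E_apply_zero d hx h', mul_zero]
      · have := congrFun (congrFun (h (d.e j.1)) ⟨k, h'.symm⟩) ⟨j, rfl⟩
        simp only [rho, Matrix.toSquareBlock_def, Matrix.of_apply, Matrix.zero_apply] at this
        rw [this, mul_zero]
      · rw [ih i k (by omega), zero_mul]
  ext i j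
  exact hs _ i j (by have := hK j.1; omega)

variable [Fintype F]

/-- The idempotent projecting onto the generalized eigenspaces at `±1`. -/
theorem exists_pm_idem (hc : Ctx J A) :
    ∃ (e : Matrix (Fin N) (Fin N) F) (M : ℕ), e * e = e ∧ adj J e = e ∧
      IsUnit ((A - adj J A) * (1 - e) + e) ∧ e * aeval A ((X ^ 2 - 1 : F[X]) ^ M) = 0 ∧
      e ∈ Subring.closure ({A, adj J A} : Set (Matrix (Fin N) (Fin N) F)) := by
  set B := adj J A with hB
  set z := A - B with hz
  obtain ⟨m, hm⟩ := NoOffender.exists_pow_idempotent (z * z)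
  have hzM : z ^ (2 * (m + 1)) = (z * z) ^ (m + 1) := by rw [pow_mul, sq]
  set p := z ^ (2 * (m + 1)) with hp
  have hpp : p * p = p := by rw [hzM]; exact hm
  have hadjz : adj J z = -z := by
    have h1 : adj J z + adj J B = adj J A := by rw [← adj_add, hz, sub_add_cancel]
    rw [hB, hc.adj_adj] at h1
    rw [eq_sub_of_add_eq h1, hz, hB, neg_sub]
  have hadjp : adj J p = p := by
    rw [hp, show z ^ (2 * (m + 1)) = aeval z ((X : F[X]) ^ (2 * (m + 1))) by simp, hc.adj_aeval, hadjz]
    simp [Even.neg_pow (even_two_mul _)]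
  have hzS : z ∈ Subring.closure ({A, B} : Set (Matrix (Fin N) (Fin N) F)) :=
    sub_mem (Subring.subset_closure (by simp)) (Subring.subset_closure (by simp))
  refine ⟨1 - p, 2 * (m + 1), ?_, ?_, ?_, ?_, sub_mem (one_mem _) (pow_mem hzS _)⟩
  · rw [mul_sub, mul_one, sub_mul, one_mul, hpp, sub_self, sub_zero]
  · have h1 : adj J (1 - p) + adj J p = 1 := by rw [← adj_add, sub_add_cancel, adj_one hc.hJ]
    rw [hadjp] at h1
    exact eq_sub_of_add_eq h1
  · rw [sub_sub_cancel]
    refine IsUnit.of_mul_eq_one (z ^ (2 * m + 1) * p + (1 - p)) ?_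
    have c1 : Commute z p := (Commute.refl z).pow_right _
    have e1 : z * p * (z ^ (2 * m + 1) * p) = p := by
      rw [mul_assoc, ← mul_assoc p, ((c1.pow_left _).symm).eq, mul_assoc, hpp, ← mul_assoc, ← pow_succ',
        show 2 * m + 1 + 1 = 2 * (m + 1) by ring, ← hp, hpp]
    have e2 : z * p * (1 - p) = 0 := by rw [mul_assoc, mul_sub, mul_one, hpp, sub_self, mul_zero]
    have e3 : (1 - p) * (z ^ (2 * m + 1) * p) = 0 := by
      rw [← ((c1.pow_left _).symm).eq, ← mul_assoc, sub_mul, one_mul, hpp, sub_self, zero_mul]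
    have e4 : (1 - p) * (1 - p) = 1 - p := by rw [mul_sub, mul_one, sub_mul, one_mul, hpp, sub_self, sub_zero]
    rw [add_mul, mul_add, mul_add, e1, e2, e3, e4, add_zero, zero_add, add_sub_cancel]
  · have hAz : A * z = aeval A (X ^ 2 - 1 : F[X]) := by
      rw [hz, hB, mul_sub, hc.mul_inv, map_sub, map_pow, aeval_X, map_one, sq]
    have hcz : Commute A z := by
      rw [hz, hB]
      exact (Commute.refl A).sub_right (hc.mul_inv.trans hc.inv_mul.symm)
    rw [map_pow, ← hAz, hcz.mul_pow, (hcz.pow_pow _ _).eq, ← hp, ← mul_assoc, sub_mul, one_mul, hpp, sub_self,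
      zero_mul]

omit [Fintype F] in
/-- Vanishing blocks at `±1` give nilpotent elements there. -/
theorem isNilpotent_of_rho (hc : Ctx J A) {e x : Matrix (Fin N) (Fin N) F} {M : ℕ}
    (heD : e * aeval A ((X ^ 2 - 1 : F[X]) ^ M) = 0) (hex : Commute e x) (hx : Commute x A)
    (h : ∀ c : F, c * c = 1 → ∀ k, rho d c k x = 0) : IsNilpotent (x * e) := by
  set K := Finset.univ.sup d.e
  set y := x ^ (K + 1) with hy
  have hyA : Commute y A := hx.pow_left _
  have hE : ∀ c : F, c * c = 1 → E d c y = 0 := fun c hcc =>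
    E_pow_eq_zero d hx (h c hcc) fun i => Finset.le_sup (Finset.mem_univ i)
  set D := aeval A (X ^ 2 - 1 : F[X]) with hD
  have hyD : Commute y D := commute_aeval hyA _
  have key : ∀ (m : ℕ) (v : Fin N → F), ∃ v', y ^ m *ᵥ v = D ^ m *ᵥ v' := by
    intro m
    induction m with
    | zero => intro v; exact ⟨v, by simp⟩
    | succ m ih =>
      intro v
      obtain ⟨v1, hv1⟩ := exists_preimage d hc.h2 hyA hE v
      obtain ⟨v2, hv2⟩ := ih v1
      refine ⟨v2, ?_⟩
      rw [pow_succ, ← mulVec_mulVec, hv1, mulVec_mulVec, ← hD, (hyD.pow_left m).eq, ← mulVec_mulVec, hv2,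
        mulVec_mulVec, pow_succ']
  have hz : e * y ^ M = 0 := by
    refine Matrix.ext_iff_mulVec.2 fun v => ?_
    obtain ⟨v', hv'⟩ := key M v
    rw [← mulVec_mulVec, hv', mulVec_mulVec, hD, ← map_pow, heD, zero_mulVec, zero_mulVec]
  refine ⟨(K + 1) * M + 1, ?_⟩
  rw [(hex.symm).mul_pow, pow_succ x, pow_succ' e, mul_assoc, ← mul_assoc x, ← hex.eq, mul_assoc e]
  rw [← mul_assoc (x ^ ((K + 1) * M)), ← (hex.pow_right _).eq, pow_mul, ← hy, hz, zero_mul]

/-- The kernel step: equal blocks mean congruence in the centraliser. -/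
theorem exists_congr_of_rho_eq (hc : Ctx J A) {g h : Matrix (Fin N) (Fin N) F} (hgu : IsUnit g) (hhu : IsUnit h)
    (hgA : Commute g A) (hhA : Commute h A) (hgs : adj J g = g) (hhs : adj J h = h)
    (heq : ∀ c : F, c * c = 1 → ∀ e, rho d c e g = rho d c e h) :
    ∃ v : Matrix (Fin N) (Fin N) F, IsUnit v ∧ Commute v A ∧ adj J v * g * v = h := by
  obtain ⟨ug, rfl⟩ := hgu
  set g : Matrix (Fin N) (Fin N) F := ↑ug with hg
  set gi : Matrix (Fin N) (Fin N) F := ↑ug⁻¹ with hgi
  have g1 : g * gi = 1 := ug.mul_inv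
  have g2 : gi * g = 1 := ug.inv_mul
  have hgiA : Commute gi A := hgA.units_inv_left
  set u := gi * h with hu
  have huA : Commute u A := hgiA.mul_left hhA
  set B := adj J A with hB
  have hAB : Commute A B := hc.mul_inv.trans hc.inv_mul.symm
  have hgB : Commute g B := by
    have := hc.commute_adj hgA.symm.symm
    rw [hgs] at this
    calc g * B = B * A * g * B := by rw [hc.inv_mul, one_mul]
      _ = B * (A * g) * B := by simp only [mul_assoc]
      _ = B * g * (A * B) := by rw [← this.eq]; simp only [mul_assoc]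
      _ = B * g := by rw [hc.mul_inv, mul_one]
  have hhB : Commute h B := by
    calc h * B = B * A * h * B := by rw [hc.inv_mul, one_mul]
      _ = B * (A * h) * B := by simp only [mul_assoc]
      _ = B * h * (A * B) := by rw [← hhA.eq]; simp only [mul_assoc]
      _ = B * h := by rw [hc.mul_inv, mul_one]
  have huB : Commute u B := (hgB.units_inv_left).mul_left hhB
  have hadjgi : adj J gi = gi := by
    have h1 : g * adj J gi = 1 := by rw [← hgs, ← adj_mul hc.hJ, g2, adj_one hc.hJ]
    calc adj J gi = gi * g * adj J gi := by rw [g2, one_mul]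
      _ = gi := by rw [mul_assoc, h1, mul_one]
  let τ : Matrix (Fin N) (Fin N) F → Matrix (Fin N) (Fin N) F := fun x => gi * adj J x * g
  have τadd : ∀ x y, τ (x + y) = τ x + τ y := fun x y => by simp only [τ, adj_add, mul_add, add_mul]
  have τmul : ∀ x y, τ (x * y) = τ y * τ x := fun x y => by
    simp only [τ, adj_mul hc.hJ, mul_assoc]
    rw [← mul_assoc g gi, g1, one_mul]
  have τone : τ 1 = 1 := by simp only [τ, adj_one hc.hJ, mul_one]; exact g2
  have τA : τ A = B := by
    show gi * B * g = B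
    rw [mul_assoc, ← hgB.eq, ← mul_assoc, g2, one_mul]
  have τB : τ B = A := by
    show gi * adj J (adj J A) * g = A
    rw [hc.adj_adj, mul_assoc, ← hgA.eq, ← mul_assoc, g2, one_mul]
  have τu : τ u = u := by
    show gi * adj J (gi * h) * g = u
    rw [adj_mul hc.hJ, hadjgi, hhs, hu, mul_assoc, mul_assoc, g2, mul_one]
  set S : Set (Matrix (Fin N) (Fin N) F) := {A, B, u} with hS
  have hcomm : ∀ a ∈ S, ∀ b ∈ S, a * b = b * a := by
    rintro a (rfl | rfl | rfl) b (rfl | rfl | rfl)
    exacts [rfl, hAB.eq, huA.eq.symm, hAB.eq.symm, rfl, huB.eq.symm, huA.eq, huB.eq, rfl]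
  have mA : A ∈ Subring.closure S := Subring.subset_closure (Or.inl rfl)
  have mB : B ∈ Subring.closure S := Subring.subset_closure (Or.inr (Or.inl rfl))
  have mu : u ∈ Subring.closure S := Subring.subset_closure (Or.inr (Or.inr rfl))
  have hclos : ∀ a ∈ S, τ a ∈ Subring.closure S := by
    rintro a (rfl | rfl | rfl)
    exacts [τA.symm ▸ mB, τB.symm ▸ mA, τu.symm ▸ mu]
  have hinv : ∀ a ∈ S, τ (τ a) = a := by
    rintro a (rfl | rfl | rfl)
    exacts [by rw [τA, τB], by rw [τB, τA], by rw [τu, τu]]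
  have hcc : ∀ a ∈ Subring.closure S, ∀ b ∈ Subring.closure S, Commute a b := fun a ha b hb =>
    congrArg Subtype.val ((Subring.isMulCommutative_closure hcomm).is_comm.comm ⟨a, ha⟩ ⟨b, hb⟩)
  obtain ⟨e, M, hee, hadje, hlam, heD, hemem⟩ := exists_pm_idem (A := A) hc
  have me : e ∈ Subring.closure S := Subring.closure_mono (by
    intro a ha
    rcases ha with rfl | rfl
    exacts [Or.inl rfl, Or.inr (Or.inl rfl)]) hemem
  have τe : τ e = e := by
    show gi * adj J e * g = e
    have : Commute g e := by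
      have hle : Subring.closure ({A, B} : Set (Matrix (Fin N) (Fin N) F)) ≤ Subring.centralizer {g} := by
        rw [Subring.closure_le]
        intro a ha
        refine Subring.mem_centralizer_iff.2 fun b hb => ?_
        rw [Set.mem_singleton_iff.1 hb]
        rcases ha with rfl | rfl
        exacts [hgA.eq, hgB.eq]
      exact Subring.mem_centralizer_iff.1 (hle hemem) g rfl
    rw [hadje, mul_assoc, ← this.eq, ← mul_assoc, g2, one_mul]
  have hru : ∀ c : F, c * c = 1 → ∀ k, rho d c k (u - 1) = 0 := by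
    intro c hc1 k
    rw [rho_sub, rho_one, hu, rho_mul d hgiA hhA, ← heq c hc1 k, ← rho_mul d hgiA hgA, g2, rho_one, sub_self]
  have hnil : IsNilpotent ((u - 1) * e) :=
    isNilpotent_of_rho d hc heD (hcc e me _ (sub_mem mu (one_mem _)))
      (huA.sub_left (Commute.one_left A)) hru
  set u1 := 1 + (u - 1) * e with hu1
  set u2 := e + u * (1 - e) with hu2
  have m1 : u1 ∈ Subring.closure S := add_mem (one_mem _) (mul_mem (sub_mem mu (one_mem _)) me)
  have m2 : u2 ∈ Subring.closure S := add_mem me (mul_mem mu (sub_mem (one_mem _) me))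
  have he1 : (1 - e) * e = 0 := by rw [sub_mul, one_mul, hee, sub_self]
  have h12 : u1 * u2 = u := by
    have hue : Commute u e := hcc u mu e me
    have e1 : (u - 1) * e * e = (u - 1) * e := by rw [mul_assoc, hee]
    have e2 : (u - 1) * e * (u * (1 - e)) = 0 := by
      rw [← mul_assoc, mul_assoc (u - 1), ← hue.eq, mul_assoc, mul_assoc, mul_sub, mul_one, hee, sub_self, mul_zero,
        mul_zero]
    rw [hu1, hu2, add_mul, one_mul, mul_add, e1, e2, add_zero]
    noncomm_ring
  have huu : IsUnit u := (ug⁻¹).isUnit.mul hhu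
  have hu2u : IsUnit u2 := by
    have : u2 * u1 = u := (hcc u2 m2 u1 m1).eq.trans h12
    obtain ⟨z, hz⟩ := huu.exists_right_inv
    exact IsUnit.of_mul_eq_one (u1 * z) (by rw [← mul_assoc, this, hz])
  have hu2e : u2 * e = e := by rw [hu2, add_mul, hee, mul_assoc, he1, mul_zero, add_zero]
  have τsub : ∀ x y, τ (x - y) = τ x - τ y := fun x y => by
    have := τadd (x - y) y
    rw [sub_add_cancel] at this
    exact eq_sub_of_add_eq this.symm
  have hcue : Commute e u := hcc e me u mu
  have τu1 : τ u1 = u1 := by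
    rw [hu1, τadd, τmul, τsub, τone, τe, τu, (hcc e me _ (sub_mem mu (one_mem _))).eq]
  have τu2 : τ u2 = u2 := by
    rw [hu2, τadd, τmul, τsub, τone, τe, τu, (hcc _ (sub_mem (one_mem _) me) u mu).eq]
  obtain ⟨c, hcS, hcu, -, hcc2⟩ := exists_norm_eq_of_anti_idem τ τadd τmul τone S hcomm hclos hinv
    me hee τe mA (by rw [τA]; exact hlam) m2 hu2u τu2 hu2e
  -- a square root of the unipotent part
  rcases subsingleton_or_nontrivial (Matrix (Fin N) (Fin N) F) with hss | hnt
  · exact ⟨1, isUnit_one, Commute.one_left A, Subsingleton.elim _ _⟩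
  obtain ⟨p, hp⟩ := CharP.exists F
  obtain ⟨k, hpp, -⟩ := FiniteField.card F p
  haveI := Fact.mk hpp
  haveI : CharP (Matrix (Fin N) (Fin N) F) p :=
    charP_of_injective_algebraMap (algebraMap F (Matrix (Fin N) (Fin N) F)).injective p
  obtain ⟨L, hL⟩ := hnil
  have hodd : Odd (p ^ L) := by
    refine (hpp.odd_of_ne_two ?_).pow
    rintro rfl
    exact hc.h2 (by exact_mod_cast CharP.cast_eq_zero F 2)
  have hP : u1 ^ (p ^ L) = 1 := by
    rw [hu1, add_pow_char_pow_of_commute (p := p) (n := L) (h := Commute.one_left _), one_pow,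
      pow_eq_zero_of_le (Nat.lt_pow_self hpp.one_lt).le hL, add_zero]
  obtain ⟨r, hr⟩ := hodd
  set w1 := u1 ^ (r + 1) with hw1
  have hw12 : w1 * w1 = u1 := by
    rw [hw1, ← pow_add, show r + 1 + (r + 1) = p ^ L + 1 by omega, pow_succ, hP, one_mul]
  have hu1u : IsUnit u1 := IsUnit.of_pow_eq_one hP (by omega)
  have τw1 : τ w1 = w1 := by
    rw [hw1]
    generalize r + 1 = j
    induction j with
    | zero => rw [pow_zero, τone]
    | succ j ih => rw [pow_succ, τmul, ih, τu1, ← pow_succ', pow_succ]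
  have mv : w1 * c ∈ Subring.closure S := mul_mem (pow_mem m1 _) hcS
  refine ⟨w1 * c, (hu1u.pow _).mul hcu, hcc _ mv A mA, ?_⟩
  have hτv : τ (w1 * c) * (w1 * c) = u := by
    rw [τmul, τw1, mul_assoc, ← mul_assoc w1, hw12, (hcc u1 m1 c hcS).eq, ← mul_assoc, hcc2,
      (hcc u2 m2 u1 m1).eq, h12]
  calc adj J (w1 * c) * g * (w1 * c) = g * (τ (w1 * c) * (w1 * c)) := by
        simp only [τ, ← mul_assoc, g1, one_mul]
    _ = h := by rw [hτv, hu, ← mul_assoc, g1, one_mul]

/-- Symmetric invertible elements of the centraliser are congruent there when their block determinants agree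
up to squares. -/
theorem exists_congr_of_det (hc : Ctx J A) {h1 h2 : Matrix (Fin N) (Fin N) F} (hu1 : IsUnit h1) (hu2 : IsUnit h2)
    (hc1 : Commute h1 A) (hc2 : Commute h2 A) (hs1 : adj J h1 = h1) (hs2 : adj J h2 = h2)
    (hsq : ∀ c : F, c * c = 1 → ∀ e, Even e →
      IsSquare ((bB d J c e * rho d c e h1).det * (bB d J c e * rho d c e h2).det)) :
    ∃ w : Matrix (Fin N) (Fin N) F, IsUnit w ∧ Commute w A ∧ adj J w * h1 * w = h2 := by
  obtain ⟨w, hwu, hwc, hw⟩ := exists_match d hc hu1 hu2 hc1 hc2 hs1 hs2 hsq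
  have hwa : IsUnit (adj J w) := by
    obtain ⟨z, hz⟩ := hwu.exists_left_inv
    exact IsUnit.of_mul_eq_one _ (by rw [← adj_mul hc.hJ, hz, adj_one hc.hJ])
  obtain ⟨v, hvu, hvc, hv⟩ := exists_congr_of_rho_eq d hc ((hwa.mul hu1).mul hwu) hu2
    (((hc.commute_adj hwc).mul_left hc1).mul_left hwc) hc2
    (by rw [adj_mul hc.hJ, adj_mul hc.hJ, hc.adj_adj, hs1, mul_assoc]) hs2 hw
  refine ⟨w * v, hwu.mul hvu, hwc.mul_left hvc, ?_⟩
  rw [adj_mul hc.hJ, ← hv]
  simp only [mul_assoc]

end CfsgLib.ClassCountSp
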