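import Cfsg.Agent.ClassCountSp.SpData
import Cfsg.Agent.ClassCountSp.Orbit
import Cfsg.Agent.ClassCountU.Classes
import Cfsg.Agent.TransposeConj.Basic

set_option autoImplicit false
set_option linter.style.haveILetI false

/-!
Conjugacy classes of `Sp(2n,q)`, `q` odd, inject into the encodings.
-/

namespace CfsgLib.ClassCountSp

open Polynomial Matrix CfsgLib.InvNorm
open CfsgLib.ClassCount (Item IsItem Decomp dataOf)
open CfsgLib.ClassCountU (starItem)
open scoped Classical

variable {F : Type*} [Field F] {n : ℕ}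

/-- The standard alternating matrix on `Fin (n + n)`. -/
def Jn (F : Type*) [Field F] (n : ℕ) : Matrix (Fin (n + n)) (Fin (n + n)) F :=
  (Matrix.J (Fin n) F).submatrix finSumFinEquiv.symm finSumFinEquiv.symm

/-- Symplectic matrices as matrices on `Fin (n + n)`. -/
noncomputable def toMat : Matrix.symplecticGroup (Fin n) F →* Matrix (Fin (n + n)) (Fin (n + n)) F :=
  (Matrix.reindexAlgEquiv F F finSumFinEquiv).toAlgHom.toRingHom.toMonoidHom.comp
    (Matrix.symplecticGroup (Fin n) F).subtype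

theorem toMat_apply (g : Matrix.symplecticGroup (Fin n) F) :
    toMat g = (g : Matrix (Fin n ⊕ Fin n) (Fin n ⊕ Fin n) F).submatrix finSumFinEquiv.symm finSumFinEquiv.symm :=
  rfl

/-- Symplectic matrices in `GL (Fin (n + n))`. -/
noncomputable def toGL : Matrix.symplecticGroup (Fin n) F →* GL (Fin (n + n)) F := toMat.toHomUnits

theorem coe_toGL (g : Matrix.symplecticGroup (Fin n) F) :
    (toGL g : Matrix (Fin (n + n)) (Fin (n + n)) F) = toMat g := rfl

theorem toGL_injective : Function.Injective (toGL : Matrix.symplecticGroup (Fin n) F →* _) := by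
  intro g h e
  apply Subtype.ext
  have e' : toMat g = toMat h := congrArg Units.val e
  rw [toMat_apply, toMat_apply] at e'
  exact (Matrix.reindex finSumFinEquiv finSumFinEquiv).injective e'

theorem Jn_ctx (h2 : (2 : F) ≠ 0) (g : Matrix.symplecticGroup (Fin n) F) :
    Ctx (Jn F n) (toGL g : Matrix (Fin (n + n)) (Fin (n + n)) F) where
  hJ := by rw [Jn, Matrix.det_submatrix_equiv_self]; exact Matrix.isUnit_det_J (Fin n) F
  hT := by rw [Jn, Matrix.transpose_submatrix, Matrix.J_transpose, Matrix.submatrix_neg]; rfl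
  h2 := h2
  iso := by
    rw [coe_toGL, toMat_apply, Jn, Matrix.transpose_submatrix, Matrix.submatrix_mul_equiv,
      Matrix.submatrix_mul_equiv, SymplecticGroup.mem_iff'.1 g.2]

theorem exists_preimage_iso {Q : Matrix (Fin (n + n)) (Fin (n + n)) F} (hQ : Qᵀ * Jn F n * Q = Jn F n) :
    ∃ g : Matrix.symplecticGroup (Fin n) F, (toGL g : Matrix (Fin (n + n)) (Fin (n + n)) F) = Q := by
  refine ⟨⟨Q.submatrix finSumFinEquiv finSumFinEquiv, SymplecticGroup.mem_iff'.2 ?_⟩, ?_⟩
  · have e : Matrix.J (Fin n) F = (Jn F n).submatrix finSumFinEquiv finSumFinEquiv := by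
      simp [Jn, Matrix.submatrix_submatrix]
    rw [e, Matrix.transpose_submatrix, Matrix.submatrix_mul_equiv, Matrix.submatrix_mul_equiv, hQ]
  · rw [coe_toGL, toMat_apply]
    simp [Matrix.submatrix_submatrix]

variable [Fintype F]

/-- The data of a symplectic matrix is self-dual. -/
theorem data_fixed (h2 : (2 : F) ≠ 0) (g : Matrix.symplecticGroup (Fin n) F) :
    (dataOf (toGL g)).map (starItem (RingHom.id F)) = dataOf (toGL g) := by
  set A := toGL g with hA
  have hc := Jn_ctx h2 g
  rw [← hA] at hc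
  let Jg : GL (Fin (n + n)) F := Matrix.GeneralLinearGroup.mkOfDetNeZero (Jn F n) (isUnit_iff_ne_zero.1 hc.hJ)
  let A' : GL (Fin (n + n)) F := Jg * A * Jg⁻¹
  have h : (A' : Matrix (Fin (n + n)) (Fin (n + n)) F) *
      InvNorm.tau (RingHom.id F) (A : Matrix (Fin (n + n)) (Fin (n + n)) F) = 1 := by
    rw [mul_eq_one_comm]
    show (((A : Matrix (Fin (n + n)) (Fin (n + n)) F)).map id)ᵀ * ((Jn F n) * (A : Matrix (Fin (n + n)) (Fin (n + n)) F) * (↑Jg⁻¹ : Matrix (Fin (n + n)) (Fin (n + n)) F)) = 1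
    rw [Matrix.map_id, ← mul_assoc, ← mul_assoc, hc.iso]
    exact Jg.mul_inv
  rw [← ClassCountU.dataOf_star (fun _ => rfl) A A' h, ClassCount.dataOf_conj]

theorem blk_card {A : GL (Fin (n + n)) F} (d : Decomp (A : Matrix (Fin (n + n)) (Fin (n + n)) F)) (c : F) (e : ℕ) :
    Fintype.card (Blk d c e) = mult (dataOf A) c e := by
  rw [ClassCount.dataOf_eq d, mult, Decomp.data, Multiset.count_map, ← Finset.filter_val, Finset.card_val,
    ← Fintype.card_subtype]
  refine Fintype.card_congr ⟨fun i => ⟨i.1.1, ?_⟩, fun i => ⟨⟨i.1, ?_⟩, ?_⟩, fun i => ?_, fun i => ?_⟩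
  · exact Prod.ext i.1.2.symm i.2.symm
  · exact (congrArg Prod.fst i.2).symm
  · exact (congrArg Prod.snd i.2).symm
  · rfl
  · rfl

/-- A representative of all symplectic matrices with given data. -/
noncomputable def base (D : Multiset (Item F)) : Matrix.symplecticGroup (Fin n) F :=
  if h : ∃ g : Matrix.symplecticGroup (Fin n) F, dataOf (toGL g) = D then h.choose else 1

theorem base_data (g : Matrix.symplecticGroup (Fin n) F) :
    dataOf (toGL (base (n := n) (dataOf (toGL g)))) = dataOf (toGL g) := by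
  have h : ∃ g' : Matrix.symplecticGroup (Fin n) F, dataOf (toGL g') = dataOf (toGL g) := ⟨g, rfl⟩
  rw [base, dif_pos h]
  exact h.choose_spec

/-- Its decomposition. -/
noncomputable def baseDec (D : Multiset (Item F)) :
    Decomp (toGL (base (n := n) D) : Matrix (Fin (n + n)) (Fin (n + n)) F) :=
  Classical.choice (ClassCount.exists_decomp _ (Matrix.GeneralLinearGroup.det_ne_zero _))

theorem exists_conjugator (g : Matrix.symplecticGroup (Fin n) F) :
    ∃ P : GL (Fin (n + n)) F, P * toGL (base (n := n) (dataOf (toGL g))) * P⁻¹ = toGL g :=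
  isConj_iff.1 (ClassCountU.isConj_GL_of_dataOf (base_data g))

/-- The chosen conjugator. -/
noncomputable def conjr (g : Matrix.symplecticGroup (Fin n) F) : GL (Fin (n + n)) F :=
  (exists_conjugator g).choose

/-- The symmetric element attached to `g`. -/
noncomputable def sym (g : Matrix.symplecticGroup (Fin n) F) : Matrix (Fin (n + n)) (Fin (n + n)) F :=
  adj (Jn F n) (conjr g : Matrix (Fin (n + n)) (Fin (n + n)) F) * (conjr g : Matrix (Fin (n + n)) (Fin (n + n)) F)

/-- The flag: the block is present and its determinant is a square. -/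
noncomputable def flag (D : Multiset (Item F)) (h : Matrix (Fin (n + n)) (Fin (n + n)) F) (c : F) (e : ℕ) : Bool :=
  decide (Even e ∧ 0 < mult D c e ∧
    IsSquare (bB (baseDec (n := n) D) (Jn F n) c e * rho (baseDec (n := n) D) c e h).det)

theorem conjr_spec (g : Matrix.symplecticGroup (Fin n) F) :
    (conjr g : Matrix (Fin (n + n)) (Fin (n + n)) F) * toGL (base (n := n) (dataOf (toGL g))) =
      toGL g * (conjr g : Matrix (Fin (n + n)) (Fin (n + n)) F) := by
  rw [← Units.val_mul, ← Units.val_mul]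
  exact congrArg Units.val (mul_inv_eq_iff_eq_mul.1 (exists_conjugator g).choose_spec)

theorem sym_props (h2 : (2 : F) ≠ 0) (g : Matrix.symplecticGroup (Fin n) F) :
    IsUnit (sym g) ∧ adj (Jn F n) (sym g) = sym g ∧
      Commute (sym g) (toGL (base (n := n) (dataOf (toGL g))) : Matrix (Fin (n + n)) (Fin (n + n)) F) := by
  have hc := Jn_ctx h2 (base (n := n) (dataOf (toGL g)))
  have hg := Jn_ctx h2 g
  set P : Matrix (Fin (n + n)) (Fin (n + n)) F := (conjr g : Matrix (Fin (n + n)) (Fin (n + n)) F) with hP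
  set A₀ : Matrix (Fin (n + n)) (Fin (n + n)) F := (toGL (base (n := n) (dataOf (toGL g))) : Matrix (Fin (n + n)) (Fin (n + n)) F)
  set A : Matrix (Fin (n + n)) (Fin (n + n)) F := (toGL g : Matrix (Fin (n + n)) (Fin (n + n)) F)
  have e : P * A₀ = A * P := conjr_spec g
  have hPu : IsUnit P := (conjr g).isUnit
  refine ⟨?_, ?_, ?_⟩
  · obtain ⟨z, hz⟩ := hPu.exists_left_inv
    exact (IsUnit.of_mul_eq_one (adj (Jn F n) z) (by rw [← adj_mul hc.hJ, hz, adj_one hc.hJ])).mul hPu
  · rw [sym, adj_mul hc.hJ, hc.adj_adj]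
  · have h1 : adj (Jn F n) A₀ * sym g * A₀ = sym g := by
      calc adj (Jn F n) A₀ * (adj (Jn F n) P * P) * A₀ = adj (Jn F n) (P * A₀) * (P * A₀) := by
            rw [adj_mul hc.hJ]; simp only [mul_assoc]
        _ = adj (Jn F n) P * (adj (Jn F n) A * A) * P := by rw [e, adj_mul hc.hJ]; simp only [mul_assoc]
        _ = adj (Jn F n) P * P := by rw [hg.inv_mul, mul_one]
    calc sym g * A₀ = A₀ * adj (Jn F n) A₀ * sym g * A₀ := by rw [hc.mul_inv, one_mul]
      _ = A₀ * (adj (Jn F n) A₀ * sym g * A₀) := by simp only [mul_assoc]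
      _ = A₀ * sym g := by rw [h1]

theorem adm (h2 : (2 : F) ≠ 0) (g : Matrix.symplecticGroup (Fin n) F) (h : Matrix (Fin (n + n)) (Fin (n + n)) F) :
    Adm (dataOf (toGL g)) (flag (n := n) (dataOf (toGL g)) h) n where
  h2 := h2
  valid := ClassCountU.dataOf_valid _
  size_eq := ClassCountU.dataOf_size _
  fixed := data_fixed h2 g
  oddMult c hc e he := by
    obtain ⟨d⟩ := ClassCount.exists_decomp _ (Matrix.GeneralLinearGroup.det_ne_zero (toGL g))
    rw [← blk_card d]
    exact even_card_odd d (Jn_ctx h2 g) hc he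
  alOdd c e he := by simp [flag, Nat.not_even_iff_odd.2 he]
  alLe c e := by
    cases hb : flag (n := n) (dataOf (toGL g)) h c e
    · simp
    · have := (of_decide_eq_true hb).2.1
      exact this

omit [Fintype F] in
theorem isUnit_adj {J M : Matrix (Fin (n + n)) (Fin (n + n)) F} (hJ : IsUnit J.det) (hM : IsUnit M) :
    IsUnit (adj J M) := by
  obtain ⟨z, hz⟩ := hM.exists_left_inv
  exact IsUnit.of_mul_eq_one _ (by rw [← adj_mul hJ, hz, adj_one hJ])

theorem isSquare_mul_of_not {a b : F} (ha : ¬ IsSquare a) (hb : ¬ IsSquare b) : IsSquare (a * b) := by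
  have ha0 : a ≠ 0 := fun h => ha (h ▸ IsSquare.zero)
  have hb0 : b ≠ 0 := fun h => hb (h ▸ IsSquare.zero)
  rw [← quadraticChar_one_iff_isSquare (mul_ne_zero ha0 hb0), map_mul,
    quadraticChar_neg_one_iff_not_isSquare.2 ha, quadraticChar_neg_one_iff_not_isSquare.2 hb]
  norm_num

/-- Equal data and flags give conjugate elements. -/
theorem isConj_of_eq (h2 : (2 : F) ≠ 0) {g g' : Matrix.symplecticGroup (Fin n) F}
    (hD : dataOf (toGL g) = dataOf (toGL g'))
    (hfl : ∀ c : F, c * c = 1 → ∀ e, flag (n := n) (dataOf (toGL g)) (sym g) c e =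
      flag (n := n) (dataOf (toGL g')) (sym g') c e) : IsConj g g' := by
  obtain ⟨hu, hs, hcm⟩ := sym_props h2 g
  obtain ⟨hu', hs', hcm'⟩ := sym_props h2 g'
  set D := dataOf (toGL g) with hDdef
  rw [← hD] at hcm' hfl
  have hc := Jn_ctx h2 (base (n := n) D)
  set d := baseDec (n := n) D
  have hsq : ∀ c : F, c * c = 1 → ∀ e, Even e →
      IsSquare ((bB d (Jn F n) c e * rho d c e (sym g)).det * (bB d (Jn F n) c e * rho d c e (sym g')).det) := by
    intro c hc1 e he
    rcases Nat.eq_zero_or_pos (mult D c e) with h0 | hpos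
    · have hcard : Fintype.card (Blk d c e) = 0 := by
        rw [blk_card d, hDdef, base_data g, ← hDdef]; exact h0
      haveI := Fintype.card_eq_zero_iff.1 hcard
      simp
    · have := hfl c hc1 e
      simp only [flag, he, hpos, true_and] at this
      by_cases hs1 : IsSquare (bB d (Jn F n) c e * rho d c e (sym g)).det
      · exact hs1.mul ((decide_eq_decide.1 this).1 hs1)
      · exact isSquare_mul_of_not hs1 (fun h => hs1 ((decide_eq_decide.1 this).2 h))
  obtain ⟨w, hwu, hwc, hw⟩ := exists_congr_of_det d hc hu hu' hcm hcm' hs hs' hsq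
  set J := Jn F n
  set P : Matrix (Fin (n + n)) (Fin (n + n)) F := (conjr g : Matrix (Fin (n + n)) (Fin (n + n)) F) with hP
  set P' : Matrix (Fin (n + n)) (Fin (n + n)) F := (conjr g' : Matrix (Fin (n + n)) (Fin (n + n)) F) with hP'
  set Pi : Matrix (Fin (n + n)) (Fin (n + n)) F := ((conjr g')⁻¹ : GL (Fin (n + n)) F).1 with hPi
  have p1 : P' * Pi = 1 := (conjr g').mul_inv
  have p2 : Pi * P' = 1 := (conjr g').inv_mul
  have hQ : adj J (P * w * Pi) * (P * w * Pi) = 1 := by
    calc adj J (P * w * Pi) * (P * w * Pi) = adj J Pi * (adj J w * sym g * w) * Pi := by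
          rw [sym, ← hP, adj_mul hc.hJ, adj_mul hc.hJ]; simp only [mul_assoc]; rfl
      _ = adj J (P' * Pi) * (P' * Pi) := by
          rw [hw, sym, ← hP', adj_mul hc.hJ P' Pi]; simp only [mul_assoc]; rfl
      _ = 1 := by rw [p1, adj_one hc.hJ, mul_one]
  have hiso : (P * w * Pi)ᵀ * J * (P * w * Pi) = J := by
    have key : ∀ M : Matrix (Fin (n + n)) (Fin (n + n)) F, adj J M * M = 1 → Mᵀ * J * M = J := by
      intro M hM
      calc Mᵀ * J * M = J * J⁻¹ * (Mᵀ * J * M) := by rw [Matrix.mul_nonsing_inv _ hc.hJ, one_mul]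
        _ = J * (adj J M * M) := by simp only [adj, mul_assoc]
        _ = J := by rw [hM, mul_one]
    exact key _ hQ
  obtain ⟨q, hq⟩ := exists_preimage_iso hiso
  have e2 := conjr_spec g'
  rw [← hD] at e2
  refine (isConj_iff.2 ⟨q, ?_⟩).symm
  rw [mul_inv_eq_iff_eq_mul]
  apply toGL_injective
  apply Units.ext
  rw [map_mul, map_mul, Units.val_mul, Units.val_mul, hq]
  have e3 : Pi * (toGL g' : Matrix (Fin (n + n)) (Fin (n + n)) F) =
      (toGL (base (n := n) D) : Matrix (Fin (n + n)) (Fin (n + n)) F) * Pi := by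
    calc Pi * (toGL g' : Matrix (Fin (n + n)) (Fin (n + n)) F) = Pi * ((toGL g' : Matrix (Fin (n + n)) (Fin (n + n)) F) * P') * Pi := by
          rw [mul_assoc, mul_assoc, p1, mul_one]
      _ = Pi * (P' * (toGL (base (n := n) D) : Matrix (Fin (n + n)) (Fin (n + n)) F)) * Pi := by rw [hP', e2]
      _ = _ := by rw [← mul_assoc, p2, one_mul]
  rw [mul_assoc, e3, ← mul_assoc, mul_assoc P, hwc.eq, ← mul_assoc, hP, conjr_spec g]
  simp only [mul_assoc]

/-- `k(Sp(2n,q)) ≤ W`. -/
theorem card_classes_le (h2 : (2 : F) ≠ 0) :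
    Nat.card (ConjClasses (Matrix.symplecticGroup (Fin n) F)) ≤ W (Fintype.card F) 1 n := by
  obtain ⟨hfin, hcard⟩ := card_encSet_le (F := F) (n + n) (n + n + 1) 1 n le_rfl (by omega)
  haveI := hfin
  let rep : ConjClasses (Matrix.symplecticGroup (Fin n) F) → Matrix.symplecticGroup (Fin n) F := Quotient.out
  have hrep : ∀ C, ConjClasses.mk (rep C) = C := fun C => Quotient.out_eq C
  refine le_trans (Nat.card_le_card_of_injective
    (fun C => (⟨_, enc_mem (adm h2 (rep C) (sym (rep C)))⟩ : encSet F (n + n) 1 n)) ?_) hcard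
  intro C C' e
  obtain ⟨hD, hfl⟩ := enc_inj (adm h2 (rep C) (sym (rep C))) (adm h2 (rep C') (sym (rep C')))
    (congrArg Subtype.val e)
  rw [← hrep C, ← hrep C', ConjClasses.mk_eq_mk_iff_isConj]
  exact isConj_of_eq h2 hD hfl

end CfsgLib.ClassCountSp
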