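import Cfsg.Agent.FormDiscr.Basic
import Cfsg.Agent.Forms.SymplecticBasis

set_option autoImplicit false
set_option linter.style.haveILetI false

/-!
Congruence of invertible symmetric and alternating matrices over a finite field of odd order.
-/

namespace CfsgLib.ClassCountSp

open Matrix
open scoped Classical

variable {F : Type*} [Field F] {ι : Type*} [Fintype ι] [DecidableEq ι]

theorem det_ne_of_congr {S T m : Matrix ι ι F} (hT : T.det ≠ 0) (h : mᵀ * S * m = T) : m.det ≠ 0 := by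
  intro h0
  apply hT
  rw [← h, det_mul, h0, mul_zero]

theorem congr_of_forall {S T : Matrix ι ι F} {g : (ι → F) →ₗ[F] (ι → F)}
    (h : (Matrix.toLinearMap₂' F S).compl₁₂ g g = Matrix.toLinearMap₂' F T) :
    (LinearMap.toMatrix' g)ᵀ * S * LinearMap.toMatrix' g = T := by
  have := congrArg (LinearMap.toMatrix₂' F) h
  rwa [LinearMap.toMatrix₂'_compl₁₂, LinearMap.toMatrix'_toLinearMap₂',
    LinearMap.toMatrix'_toLinearMap₂'] at this

theorem exists_congr_symm_fin [Fintype F] (h2 : (2 : F) ≠ 0) {n : ℕ} (S T : Matrix (Fin n) (Fin n) F)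
    (hS : Sᵀ = S) (hT : Tᵀ = T) (hSd : S.det ≠ 0) (hTd : T.det ≠ 0) (h : IsSquare (S.det * T.det)) :
    ∃ m : Matrix (Fin n) (Fin n) F, mᵀ * S * m = T := by
  let Q : Matrix (Fin n) (Fin n) F → QuadraticForm F (Fin n → F) := fun M =>
    LinearMap.BilinMap.toQuadraticMap (Matrix.toLinearMap₂' F M)
  have hpol : ∀ M : Matrix (Fin n) (Fin n) F, Mᵀ = M →
      (Q M).polarBilin = Matrix.toLinearMap₂' F ((2 : F) • M) := by
    intro M hM
    refine LinearMap.ext₂ fun x y => ?_
    rw [QuadraticMap.polarBilin_apply_apply, LinearMap.BilinMap.polar_toQuadraticMap, map_smul,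
      LinearMap.smul_apply, LinearMap.smul_apply, Matrix.toLinearMap₂'_apply', Matrix.toLinearMap₂'_apply',
      dotProduct_mulVec y M x, dotProduct_comm (y ᵥ* M) x, ← mulVec_transpose, hM, two_smul]
  have hgram : ∀ M : Matrix (Fin n) (Fin n) F, Mᵀ = M → FormDiscr.gram (Q M) = (2 : F) • M := by
    intro M hM
    rw [FormDiscr.gram_eq, hpol M hM, LinearMap.toMatrix'_toLinearMap₂']
  have hnd : ∀ M : Matrix (Fin n) (Fin n) F, Mᵀ = M → M.det ≠ 0 → (Q M).polarBilin.Nondegenerate := by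
    intro M hM hd
    rw [hpol M hM, LinearMap.nondegenerate_toLinearMap₂'_iff_det_ne_zero, det_smul]
    exact mul_ne_zero (pow_ne_zero _ h2) hd
  obtain ⟨g, hg⟩ := (FormDiscr.equivalent_iff h2 (Q T) (Q S) (hnd T hT hTd) (hnd S hS hSd)).2 (by
    rw [hgram T hT, hgram S hS, det_smul, det_smul]
    obtain ⟨z, hz⟩ := h
    exact ⟨2 ^ Fintype.card (Fin n) * z, by linear_combination (2 ^ Fintype.card (Fin n) * 2 ^ Fintype.card (Fin n)) * hz⟩)
  refine ⟨LinearMap.toMatrix' g.toLinearMap, congr_of_forall (LinearMap.ext₂ fun x y => ?_)⟩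
  have hp : (Q S).polarBilin (g x) (g y) = (Q T).polarBilin x y := by
    simp only [QuadraticMap.polarBilin_apply_apply, QuadraticMap.polar, ← map_add, hg]
  rw [hpol S hS, hpol T hT, map_smul, map_smul] at hp
  simp only [LinearMap.smul_apply, smul_eq_mul] at hp
  exact mul_left_cancel₀ h2 hp

/-- Symmetric invertible matrices with determinants in one square class are congruent. -/
theorem exists_congr_symm [Fintype F] (h2 : (2 : F) ≠ 0) (S T : Matrix ι ι F) (hS : Sᵀ = S) (hT : Tᵀ = T)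
    (hSd : S.det ≠ 0) (hTd : T.det ≠ 0) (h : IsSquare (S.det * T.det)) :
    ∃ m : Matrix ι ι F, mᵀ * S * m = T := by
  let e := Fintype.equivFin ι
  obtain ⟨m, hm⟩ := exists_congr_symm_fin h2 (S.submatrix e.symm e.symm) (T.submatrix e.symm e.symm)
    (by rw [transpose_submatrix, hS]) (by rw [transpose_submatrix, hT])
    (by rwa [det_submatrix_equiv_self]) (by rwa [det_submatrix_equiv_self])
    (by rwa [det_submatrix_equiv_self, det_submatrix_equiv_self])
  refine ⟨m.submatrix e e, ?_⟩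
  have hs : ∀ M : Matrix ι ι F, (M.submatrix e.symm e.symm).submatrix e e = M := fun M => by
    simp [submatrix_submatrix]
  rw [transpose_submatrix]
  conv_lhs => rw [← hs S, submatrix_mul_equiv, submatrix_mul_equiv, hm, hs T]

theorem exists_symp_basis (h2 : (2 : F) ≠ 0) (S : Matrix ι ι F) (hS : Sᵀ = -S) (hd : S.det ≠ 0) :
    ∃ (m : ℕ) (b : Module.Basis (Fin m ⊕ Fin m) F (ι → F)),
      (∀ i j, Matrix.toLinearMap₂' F S (b (Sum.inl i)) (b (Sum.inr j)) = if i = j then 1 else 0) ∧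
      (∀ i j, Matrix.toLinearMap₂' F S (b (Sum.inr i)) (b (Sum.inl j)) = if i = j then -1 else 0) ∧
      (∀ i j, Matrix.toLinearMap₂' F S (b (Sum.inl i)) (b (Sum.inl j)) = 0) ∧
      (∀ i j, Matrix.toLinearMap₂' F S (b (Sum.inr i)) (b (Sum.inr j)) = 0) := by
  have halt : LinearMap.IsAlt (Matrix.toLinearMap₂' F S : LinearMap.BilinForm F (ι → F)) := by
    intro v
    have h : v ⬝ᵥ S *ᵥ v = -(v ⬝ᵥ S *ᵥ v) := by
      conv_lhs => rw [dotProduct_mulVec, ← mulVec_transpose, hS, neg_mulVec, neg_dotProduct, dotProduct_comm]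
    rw [Matrix.toLinearMap₂'_apply']
    have h' : (2 : F) * (v ⬝ᵥ S *ᵥ v) = 0 := by linear_combination h
    exact (mul_eq_zero.1 h').resolve_left h2
  obtain ⟨m, b, b1, b2, b3⟩ := Forms.exists_symplectic_basis_nondeg _ halt
    ((LinearMap.nondegenerate_toLinearMap₂'_iff_det_ne_zero).2 hd)
  refine ⟨m, b, b1, fun i j => ?_, b2, b3⟩
  rw [← LinearMap.IsAlt.neg halt, b1]
  rcases eq_or_ne i j with rfl | h
  · simp
  · simp [h, Ne.symm h]

/-- The order of an invertible alternating matrix is even. -/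
theorem even_card_alt (h2 : (2 : F) ≠ 0) (S : Matrix ι ι F) (hS : Sᵀ = -S) (hd : S.det ≠ 0) :
    Even (Fintype.card ι) := by
  obtain ⟨m, b, -⟩ := exists_symp_basis h2 S hS hd
  refine ⟨m, ?_⟩
  rw [← Module.finrank_fintype_fun_eq_card (R := F), Module.finrank_eq_card_basis b, Fintype.card_sum,
    Fintype.card_fin]

/-- Invertible alternating matrices are congruent. -/
theorem exists_congr_alt (h2 : (2 : F) ≠ 0) (S T : Matrix ι ι F) (hS : Sᵀ = -S) (hT : Tᵀ = -T)
    (hSd : S.det ≠ 0) (hTd : T.det ≠ 0) : ∃ m : Matrix ι ι F, mᵀ * S * m = T := by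
  obtain ⟨m, b, b1, b1', b2, b3⟩ := exists_symp_basis h2 S hS hSd
  obtain ⟨m', b', c1, c1', c2, c3⟩ := exists_symp_basis h2 T hT hTd
  obtain rfl : m = m' := by
    have h1 := Module.finrank_eq_card_basis b
    have h3 := Module.finrank_eq_card_basis b'
    rw [h1, Fintype.card_sum, Fintype.card_sum, Fintype.card_fin, Fintype.card_fin] at h3
    omega
  let φ := b'.equiv b (Equiv.refl _)
  have hφ : ∀ i, φ (b' i) = b i := fun i => b'.equiv_apply i b (Equiv.refl _)
  refine ⟨LinearMap.toMatrix' φ.toLinearMap, congr_of_forall (b'.ext fun i => b'.ext fun j => ?_)⟩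
  simp only [LinearMap.compl₁₂_apply, LinearEquiv.coe_coe, hφ]
  rcases i with i | i <;> rcases j with j | j
  · rw [b2, c2]
  · rw [b1, c1]
  · rw [b1', c1']
  · rw [b3, c3]

end CfsgLib.ClassCountSp
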