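import Cfsg.Agent.ClassCount.Decomp
import Cfsg.Agent.InvNorm.Semisimple

set_option autoImplicit false
set_option linter.style.haveILetI false

/-!
An isometry `A` of an alternating form in elementary-divisor coordinates: the multiplicity matrices of the
elements of its centraliser at the roots `c = ±1`, and the forms induced on the multiplicity spaces.
-/

namespace CfsgLib.ClassCountSp

open Polynomial Matrix CfsgLib.InvNorm
open CfsgLib.ClassCount (Item IsItem Decomp)
open scoped Classical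

variable {F : Type*} [Field F] {N : ℕ} {J A : Matrix (Fin N) (Fin N) F}

/-- `A` is an isometry of the alternating form with Gram matrix `J`. -/
structure Ctx (J A : Matrix (Fin N) (Fin N) F) : Prop where
  hJ : IsUnit J.det
  hT : Jᵀ = -J
  h2 : (2 : F) ≠ 0
  iso : Aᵀ * J * A = J

/-- The form with Gram matrix `J`. -/
def bf (J : Matrix (Fin N) (Fin N) F) (u v : Fin N → F) : F := u ⬝ᵥ J *ᵥ v

theorem Ctx.hT' (hc : Ctx J A) : Jᵀ = (-1 : F) • J := by rw [hc.hT, neg_one_smul]

theorem Ctx.adj_adj (hc : Ctx J A) (M : Matrix (Fin N) (Fin N) F) : adj J (adj J M) = M :=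
  InvNorm.adj_adj hc.hJ (by norm_num) hc.hT' M

theorem Ctx.bf_swap (hc : Ctx J A) (u v : Fin N → F) : bf J u v = -bf J v u := by
  unfold bf
  rw [dotProduct_mulVec u J v, ← mulVec_transpose, hc.hT, neg_mulVec, neg_dotProduct, dotProduct_comm]

theorem Ctx.bf_adj (hc : Ctx J A) (M : Matrix (Fin N) (Fin N) F) (u v : Fin N → F) :
    bf J (M *ᵥ u) v = bf J u (adj J M *ᵥ v) := form_adj hc.hJ M u v

theorem Ctx.bf_adj' (hc : Ctx J A) (M : Matrix (Fin N) (Fin N) F) (u v : Fin N → F) :
    bf J u (M *ᵥ v) = bf J (adj J M *ᵥ u) v := by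
  rw [hc.bf_adj, hc.adj_adj]

theorem bf_smul_left (r : F) (u v : Fin N → F) : bf J (r • u) v = r * bf J u v := by
  simp [bf, smul_dotProduct]

theorem bf_smul_right (r : F) (u v : Fin N → F) : bf J u (r • v) = r * bf J u v := by
  simp [bf, mulVec_smul, dotProduct_smul]

theorem bf_sum_right {ι : Type*} (s : Finset ι) (u : Fin N → F) (w : ι → Fin N → F) :
    bf J u (∑ i ∈ s, w i) = ∑ i ∈ s, bf J u (w i) := by
  simp [bf, mulVec_sum, dotProduct_sum]

theorem bf_sum_left {ι : Type*} (s : Finset ι) (v : Fin N → F) (w : ι → Fin N → F) :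
    bf J (∑ i ∈ s, w i) v = ∑ i ∈ s, bf J (w i) v := by
  simp [bf, sum_dotProduct]

theorem Ctx.eq_zero_of_bf (hc : Ctx J A) {u : Fin N → F} (h : ∀ v, bf J u v = 0) : u = 0 := by
  have h1 : u ᵥ* J = 0 := by
    funext j
    have := h (Pi.single j 1)
    rw [bf, dotProduct_mulVec, dotProduct_single, mul_one] at this
    exact this
  by_contra hne
  exact (isUnit_iff_ne_zero.1 hc.hJ) (Matrix.exists_vecMul_eq_zero_iff.1 ⟨u, hne, h1⟩)

theorem adj_smul (r : F) (M : Matrix (Fin N) (Fin N) F) : adj J (r • M) = r • adj J M := by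
  simp [adj, Matrix.transpose_smul]

theorem Ctx.adj_aeval (hc : Ctx J A) (M : Matrix (Fin N) (Fin N) F) (f : F[X]) :
    adj J (aeval M f) = aeval (adj J M) f := by
  induction f using Polynomial.induction_on' with
  | add p r hp hr => rw [map_add, adj_add, hp, hr, map_add]
  | monomial m r =>
    rw [aeval_monomial, aeval_monomial, ← Algebra.smul_def, ← Algebra.smul_def, adj_smul]
    congr 1
    induction m with
    | zero => simp [adj_one hc.hJ]
    | succ m ih => rw [pow_succ, adj_mul hc.hJ, ih, ← pow_succ']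

theorem Ctx.inv_mul (hc : Ctx J A) : adj J A * A = 1 := adj_mul_self_of_isometry hc.hJ hc.iso

theorem Ctx.mul_inv (hc : Ctx J A) : A * adj J A = 1 := mul_eq_one_comm.1 hc.inv_mul

theorem Ctx.commute_adj (hc : Ctx J A) {x : Matrix (Fin N) (Fin N) F} (hx : Commute x A) :
    Commute (adj J x) A := by
  have h : adj J A * adj J x = adj J x * adj J A := by
    rw [← adj_mul hc.hJ, ← adj_mul hc.hJ, hx.eq]
  calc adj J x * A = A * (adj J A * adj J x) * A := by rw [← mul_assoc A, hc.mul_inv, one_mul]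
    _ = A * (adj J x * adj J A) * A := by rw [h]
    _ = A * adj J x := by rw [mul_assoc, mul_assoc (adj J x), hc.inv_mul, mul_one]

theorem commute_aeval {x : Matrix (Fin N) (Fin N) F} (hx : Commute x A) (f : F[X]) : Commute x (aeval A f) :=
  Algebra.commute_of_mem_adjoin_singleton_of_commute (aeval_mem_adjoin_singleton F A) hx

variable (d : Decomp A)

/-- The standard generator of the `i`-th component. -/
noncomputable def gen (i : Fin d.k) : Fin N → F := d.φ.symm (Pi.single i 1)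

theorem φ_gen (i : Fin d.k) : d.φ (gen d i) = Pi.single i 1 := LinearEquiv.apply_symm_apply _ _

theorem φ_aeval_gen_self (f : F[X]) (i : Fin d.k) :
    d.φ (aeval A f *ᵥ gen d i) i = AdjoinRoot.mk (d.P i ^ d.e i) f := by
  rw [ClassCount.map_aeval, φ_gen, Pi.single_eq_same, mul_one]

theorem φ_aeval_gen_ne (f : F[X]) {i k : Fin d.k} (h : k ≠ i) : d.φ (aeval A f *ᵥ gen d i) k = 0 := by
  rw [ClassCount.map_aeval, φ_gen, Pi.single_eq_of_ne h, mul_zero]

theorem aeval_ann (i : Fin d.k) : aeval A (d.P i ^ d.e i) *ᵥ gen d i = 0 := by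
  apply d.φ.injective
  funext k
  rw [map_zero, Pi.zero_apply]
  rcases eq_or_ne k i with rfl | h
  · rw [φ_aeval_gen_self, AdjoinRoot.mk_self]
  · rw [φ_aeval_gen_ne d _ h]

theorem exists_rep (v : Fin N → F) :
    ∃ f : Fin d.k → F[X], (∀ i, AdjoinRoot.mk _ (f i) = d.φ v i) ∧ v = ∑ i, aeval A (f i) *ᵥ gen d i := by
  choose f hf using fun i => AdjoinRoot.mk_surjective (d.φ v i)
  refine ⟨f, hf, d.φ.injective ?_⟩
  funext k
  rw [map_sum, Finset.sum_apply, Finset.sum_eq_single k (fun i _ h => φ_aeval_gen_ne d _ h.symm)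
    (by simp), φ_aeval_gen_self, hf]

/-- Indices with polynomial `X - c`. -/
abbrev Rt (c : F) : Type := {i : Fin d.k // d.P i = X - C c}

theorem eval_ne_of_ne {P : F[X]} (hm : P.Monic) (hi : Irreducible P) {c : F} (h : P ≠ X - C c) : P.eval c ≠ 0 := by
  intro h0
  refine h (eq_of_monic_of_associated hm (monic_X_sub_C c) ?_)
  exact ((irreducible_X_sub_C c).associated_of_dvd hi (dvd_iff_isRoot.2 h0)).symm

/-- The constant term at the root. -/
noncomputable def cst {c : F} (i : Rt d c) : AdjoinRoot (d.P i.1 ^ d.e i.1) →ₐ[F] F :=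
  AdjoinRoot.liftAlgHom _ (Algebra.ofId F F) c (by
    show aeval c _ = 0
    rw [map_pow, i.2, map_sub, aeval_X, aeval_C, Algebra.algebraMap_self, RingHom.id_apply, sub_self,
      zero_pow (Nat.one_le_iff_ne_zero.1 (d.item i.1).pos)])

theorem cst_mk {c : F} (i : Rt d c) (f : F[X]) : cst d i (AdjoinRoot.mk _ f) = f.eval c := by
  rw [cst, AdjoinRoot.liftAlgHom_mk]
  exact (congrFun (coe_aeval_eq_eval c) f)

/-- The multiplicity matrix at the root `c`. -/
noncomputable def E (c : F) (x : Matrix (Fin N) (Fin N) F) : Matrix (Rt d c) (Rt d c) F :=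
  Matrix.of fun i j => cst d i (d.φ (x *ᵥ gen d j.1) i.1)

theorem E_one (c : F) : E d c 1 = 1 := by
  ext i j
  simp only [E, Matrix.of_apply, one_mulVec, φ_gen]
  rcases eq_or_ne i j with rfl | h
  · simp
  · rw [Pi.single_eq_of_ne (fun e => h (Subtype.ext e)), map_zero, Matrix.one_apply_ne h]

theorem E_add (c : F) (x y : Matrix (Fin N) (Fin N) F) : E d c (x + y) = E d c x + E d c y := by
  ext i j; simp [E, add_mulVec]

theorem E_sub (c : F) (x y : Matrix (Fin N) (Fin N) F) : E d c (x - y) = E d c x - E d c y := by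
  ext i j; simp [E, sub_mulVec]

variable {x y : Matrix (Fin N) (Fin N) F}

theorem φ_apply_comp (hx : Commute x A) (i j : Fin d.k) :
    AdjoinRoot.mk (d.P i ^ d.e i) (d.P j ^ d.e j) * d.φ (x *ᵥ gen d j) i = 0 := by
  rw [← ClassCount.map_aeval, mulVec_mulVec, ← (commute_aeval hx _).eq, ← mulVec_mulVec, aeval_ann, mulVec_zero,
    map_zero, Pi.zero_apply]

theorem cst_comp_zero (hx : Commute x A) {c : F} (i : Rt d c) (j : Fin d.k)
    (h : d.P j ≠ X - C c ∨ d.e j < d.e i.1) : cst d i (d.φ (x *ᵥ gen d j) i.1) = 0 := by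
  have h1 := φ_apply_comp d hx i.1 j
  obtain ⟨f, hf⟩ := AdjoinRoot.mk_surjective (d.φ (x *ᵥ gen d j) i.1)
  rw [← hf, ← map_mul, AdjoinRoot.mk_eq_zero, i.2] at h1
  rw [← hf, cst_mk]
  by_cases hP : d.P j = X - C c
  · have hlt : d.e j < d.e i.1 := h.resolve_left (not_not.2 hP)
    rw [hP] at h1
    have h2 : (X - C c) ^ d.e j * (X - C c) ∣ (X - C c) ^ d.e j * f := by
      rw [← pow_succ]
      exact (pow_dvd_pow _ hlt).trans h1
    exact dvd_iff_isRoot.1 ((mul_dvd_mul_iff_left (pow_ne_zero _ (X_sub_C_ne_zero c))).1 h2)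
  · have h2 : (d.P j ^ d.e j * f).eval c = 0 :=
      dvd_iff_isRoot.1 ((dvd_pow_self _ (Nat.one_le_iff_ne_zero.1 (d.item i.1).pos)).trans h1)
    rw [eval_mul, eval_pow] at h2
    exact (mul_eq_zero.1 h2).resolve_left (pow_ne_zero _ (eval_ne_of_ne (d.item j).monic (d.item j).irr hP))

theorem E_apply_zero (hx : Commute x A) {c : F} {i j : Rt d c} (h : d.e j.1 < d.e i.1) : E d c x i j = 0 :=
  cst_comp_zero d hx i j.1 (Or.inr h)

theorem E_mul (hx : Commute x A) (c : F) : E d c (x * y) = E d c x * E d c y := by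
  ext i j
  obtain ⟨f, hf, hy⟩ := exists_rep d (y *ᵥ gen d j.1)
  have e : d.φ ((x * y) *ᵥ gen d j.1) i.1 = ∑ k, AdjoinRoot.mk _ (f k) * d.φ (x *ᵥ gen d k) i.1 := by
    rw [← mulVec_mulVec, hy, mulVec_sum, map_sum, Finset.sum_apply]
    refine Finset.sum_congr rfl fun k _ => ?_
    rw [mulVec_mulVec, (commute_aeval hx _).eq, ← mulVec_mulVec, ClassCount.map_aeval]
  show cst d i (d.φ ((x * y) *ᵥ gen d j.1) i.1) = _
  rw [e, map_sum, Matrix.mul_apply,
    ← Fintype.sum_subtype_add_sum_subtype (fun k => d.P k = X - C c)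
      (fun k => cst d i (AdjoinRoot.mk _ (f k) * d.φ (x *ᵥ gen d k) i.1))]
  rw [Finset.sum_eq_zero (s := (Finset.univ : Finset {k // ¬ d.P k = X - C c})) fun k _ => by
    rw [map_mul, cst_comp_zero d hx i k.1 (Or.inl k.2), mul_zero], add_zero]
  refine Finset.sum_congr (by congr) fun k _ => ?_
  simp only [E, Matrix.of_apply]
  rw [map_mul, cst_mk, mul_comm, ← hf, cst_mk]

/-- `N^(e-1) gen`: a vector killed by `A - c`. -/
noncomputable def soc {c : F} (k : Rt d c) : Fin N → F :=
  aeval A ((X - C c) ^ (d.e k.1 - 1)) *ᵥ gen d k.1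

/-- The pairing between socles and generators. -/
noncomputable def pair (J : Matrix (Fin N) (Fin N) F) (c : F) : Matrix (Rt d c) (Rt d c) F :=
  Matrix.of fun k l => bf J (soc d k) (gen d l.1)

theorem A_soc {c : F} (k : Rt d c) : A *ᵥ soc d k = c • soc d k := by
  have h : aeval A (X - C c) *ᵥ soc d k = 0 := by
    rw [soc, mulVec_mulVec, ← map_mul, ← pow_succ', Nat.sub_add_cancel (show 1 ≤ d.e k.1 from (d.item k.1).pos)]
    have := aeval_ann d k.1
    rwa [k.2] at this
  rw [map_sub, aeval_X, aeval_C, Algebra.algebraMap_eq_smul_one, sub_mulVec, smul_mulVec, one_mulVec, sub_eq_zero]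
    at h
  exact h

theorem aeval_eigen {M : Matrix (Fin N) (Fin N) F} {v : Fin N → F} {c : F} (h : M *ᵥ v = c • v) (f : F[X]) :
    aeval M f *ᵥ v = f.eval c • v := by
  induction f using Polynomial.induction_on' with
  | add p r hp hr => rw [map_add, add_mulVec, hp, hr, eval_add, add_smul]
  | monomial m r =>
    rw [aeval_monomial, eval_monomial, ← Algebra.smul_def, smul_mulVec, mul_smul]
    congr 1
    induction m with
    | zero => simp
    | succ m ih => rw [pow_succ, ← mulVec_mulVec, h, mulVec_smul, ih, smul_smul, mul_comm, ← pow_succ]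

theorem adj_soc (hc : Ctx J A) {c : F} (hc2 : c * c = 1) (k : Rt d c) : adj J A *ᵥ soc d k = c • soc d k := by
  have h : soc d k = adj J A *ᵥ (A *ᵥ soc d k) := by rw [mulVec_mulVec, hc.inv_mul, one_mulVec]
  rw [A_soc, mulVec_smul] at h
  conv_rhs => rw [h, smul_smul, hc2, one_smul]

theorem bf_soc_aeval (hc : Ctx J A) {c : F} (hc2 : c * c = 1) (k : Rt d c) (f : F[X]) (v : Fin N → F) :
    bf J (soc d k) (aeval A f *ᵥ v) = f.eval c * bf J (soc d k) v := by
  rw [hc.bf_adj', hc.adj_aeval, aeval_eigen (adj_soc d hc hc2 k), bf_smul_left]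

theorem bf_soc_gen_of_ne (hc : Ctx J A) {c : F} (hc2 : c * c = 1) (k : Rt d c) {l : Fin d.k}
    (hl : d.P l ≠ X - C c) : bf J (soc d k) (gen d l) = 0 := by
  have h := bf_soc_aeval d hc hc2 k (d.P l ^ d.e l) (gen d l)
  rw [aeval_ann, eval_pow] at h
  have h0 : bf J (soc d k) 0 = 0 := by simp [bf]
  rw [h0] at h
  exact (mul_eq_zero.1 h.symm).resolve_left (pow_ne_zero _ (eval_ne_of_ne (d.item l).monic (d.item l).irr hl))

theorem bf_soc (hc : Ctx J A) {c : F} (hc2 : c * c = 1) (k : Rt d c) (v : Fin N → F) :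
    bf J (soc d k) v = ∑ l : Rt d c, cst d l (d.φ v l.1) * pair d J c k l := by
  obtain ⟨f, hf, hv⟩ := exists_rep d v
  conv_lhs => rw [hv, bf_sum_right]
  rw [← Fintype.sum_subtype_add_sum_subtype (fun l => d.P l = X - C c)
    (fun l => bf J (soc d k) (aeval A (f l) *ᵥ gen d l))]
  rw [Finset.sum_eq_zero (s := (Finset.univ : Finset {l // ¬ d.P l = X - C c})) fun l _ => by
    rw [bf_soc_aeval d hc hc2, bf_soc_gen_of_ne d hc hc2 k l.2, mul_zero], add_zero]
  refine Finset.sum_congr (by congr) fun l _ => ?_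
  rw [bf_soc_aeval d hc hc2, ← hf, cst_mk]
  rfl

theorem aeval_adj_sub (hc : Ctx J A) {c : F} (hc2 : c * c = 1) (m : ℕ) :
    aeval (adj J A) ((X - C c) ^ m) = ((-c) • adj J A) ^ m * aeval A ((X - C c) ^ m) := by
  have h1 : aeval (adj J A) (X - C c) = ((-c) • adj J A) * aeval A (X - C c) := by
    simp only [map_sub, aeval_X, aeval_C, Algebra.algebraMap_eq_smul_one]
    rw [smul_mul_assoc, mul_sub, mul_smul_comm, hc.inv_mul, mul_one, smul_sub, smul_smul, neg_mul, hc2, neg_smul,
      neg_smul, one_smul]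
    abel
  have hcomm : Commute ((-c) • adj J A) (aeval A (X - C c)) :=
    (commute_aeval (show Commute (adj J A) A by
      show _ = _; rw [hc.inv_mul, hc.mul_inv]) _).smul_left _
  rw [map_pow, map_pow, h1, hcomm.mul_pow]

/-- Moving a power of `A - c` across the form. -/
theorem bf_pow (hc : Ctx J A) {c : F} (hc2 : c * c = 1) (m : ℕ) (u v : Fin N → F) :
    bf J (aeval A ((X - C c) ^ m) *ᵥ u) v =
      bf J u ((((-c) • adj J A) ^ m) *ᵥ (aeval A ((X - C c) ^ m) *ᵥ v)) := by
  rw [hc.bf_adj, hc.adj_aeval, aeval_adj_sub hc hc2, mulVec_mulVec]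

theorem pow_smul_adj_soc (hc : Ctx J A) {c : F} (hc2 : c * c = 1) (m : ℕ) (k : Rt d c) :
    (((-c) • adj J A) ^ m) *ᵥ soc d k = (-1 : F) ^ m • soc d k := by
  induction m with
  | zero => simp
  | succ m ih =>
    rw [pow_succ, ← mulVec_mulVec, smul_mulVec, adj_soc d hc hc2, smul_smul, mulVec_smul, ih, smul_smul,
      pow_succ, neg_mul, hc2, mul_comm]

theorem pair_zero (hc : Ctx J A) {c : F} (hc2 : c * c = 1) {k l : Rt d c} (h : d.e l.1 < d.e k.1) :
    pair d J c k l = 0 := by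
  show bf J (soc d k) _ = 0
  rw [soc, bf_pow hc hc2]
  have h0 : aeval A ((X - C c) ^ (d.e k.1 - 1)) *ᵥ gen d l.1 = 0 := by
    rw [show d.e k.1 - 1 = d.e k.1 - 1 - d.e l.1 + d.e l.1 by omega, pow_add, map_mul, ← mulVec_mulVec]
    have := aeval_ann d l.1
    rw [l.2] at this
    rw [this, mulVec_zero]
  rw [h0, mulVec_zero]
  simp [bf]

theorem pair_swap (hc : Ctx J A) {c : F} (hc2 : c * c = 1) {k l : Rt d c} (h : d.e l.1 = d.e k.1) :
    pair d J c l k = (-1) ^ d.e k.1 * pair d J c k l := by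
  show bf J (soc d l) _ = _
  rw [soc, bf_pow hc hc2, h]
  rw [show aeval A ((X - C c) ^ (d.e k.1 - 1)) *ᵥ gen d k.1 = soc d k from rfl,
    pow_smul_adj_soc d hc hc2, bf_smul_right, hc.bf_swap]
  show _ = (-1) ^ d.e k.1 * bf J (soc d k) (gen d l.1)
  conv_rhs => rw [← Nat.sub_add_cancel (show 1 ≤ d.e k.1 from (d.item k.1).pos), pow_succ]
  ring

theorem pair_injective (hc : Ctx J A) {c : F} (hc2 : c * c = 1) : (pair d J c).det ≠ 0 := by
  classical
  intro h0
  obtain ⟨a, hane, ha⟩ := Matrix.exists_vecMul_eq_zero_iff.2 h0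
  have hw : ∑ k, a k • soc d k = 0 := by
    refine hc.eq_zero_of_bf fun v => ?_
    rw [bf_sum_left]
    simp only [bf_smul_left, bf_soc d hc hc2, Finset.mul_sum]
    rw [Finset.sum_comm]
    refine Finset.sum_eq_zero fun l _ => ?_
    have := congrFun ha l
    rw [vecMul, dotProduct, Pi.zero_apply] at this
    calc ∑ k, a k * (cst d l (d.φ v l.1) * pair d J c k l) = cst d l (d.φ v l.1) * ∑ k, a k * pair d J c k l := by
          rw [Finset.mul_sum]; exact Finset.sum_congr rfl fun k _ => by ring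
      _ = 0 := by rw [this, mul_zero]
  apply hane
  funext k
  have h1 := congrFun (congrArg d.φ hw) k.1
  rw [map_sum, Finset.sum_apply, Finset.sum_eq_single k, map_smul, Pi.smul_apply, map_zero, Pi.zero_apply, soc,
    φ_aeval_gen_self, AdjoinRoot.smul_mk, AdjoinRoot.mk_eq_zero, k.2] at h1
  · by_contra hk
    rw [smul_eq_C_mul] at h1
    have h2 : (X - C c) ^ d.e k.1 ∣ (X - C c) ^ (d.e k.1 - 1) :=
      (IsUnit.dvd_mul_left (isUnit_C.2 (isUnit_iff_ne_zero.2 hk))).1 h1
    rw [pow_dvd_pow_iff (X_sub_C_ne_zero c) (not_isUnit_X_sub_C c)] at h2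
    have := (d.item k.1).pos
    simp only at this
    omega
  · intro l _ hl
    rw [map_smul, Pi.smul_apply, soc, φ_aeval_gen_ne d _ (fun e => hl (Subtype.ext e.symm)), smul_zero]
  · simp

/-- The form on the multiplicity space of `(X - c)^e`. -/
noncomputable def bB (J : Matrix (Fin N) (Fin N) F) (c : F) (e : ℕ) :
    Matrix {i : Rt d c // d.e i.1 = e} {i : Rt d c // d.e i.1 = e} F :=
  (pair d J c).toSquareBlock (fun i => d.e i.1) e

/-- The action on the multiplicity space of `(X - c)^e`. -/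
noncomputable def rho (c : F) (e : ℕ) (x : Matrix (Fin N) (Fin N) F) :
    Matrix {i : Rt d c // d.e i.1 = e} {i : Rt d c // d.e i.1 = e} F :=
  (E d c x).toSquareBlock (fun i => d.e i.1) e

theorem bB_det_ne (hc : Ctx J A) {c : F} (hc2 : c * c = 1) (e : ℕ) : (bB d J c e).det ≠ 0 := by
  classical
  have htri : (pair d J c).BlockTriangular (fun i => d.e i.1) := fun i j h => pair_zero d hc hc2 h
  have hdet := pair_injective d hc hc2
  rw [htri.det, Finset.prod_ne_zero_iff] at hdet
  by_cases he : e ∈ Finset.univ.image (fun i : Rt d c => d.e i.1)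
  · exact hdet e he
  · haveI : IsEmpty {i : Rt d c // d.e i.1 = e} :=
      ⟨fun i => he (Finset.mem_image.2 ⟨i.1, Finset.mem_univ _, i.2⟩)⟩
    simp [bB]

theorem bB_transpose (hc : Ctx J A) {c : F} (hc2 : c * c = 1) (e : ℕ) :
    (bB d J c e)ᵀ = (-1 : F) ^ e • bB d J c e := by
  ext ⟨k, hk⟩ ⟨l, hl⟩
  show pair d J c l k = (-1) ^ e * pair d J c k l
  rw [pair_swap d hc hc2 (hl.trans hk.symm), hk]

theorem rho_one (c : F) (e : ℕ) : rho d c e 1 = 1 := by
  ext i j
  show E d c 1 i.1 j.1 = _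
  rw [E_one]
  simp [Matrix.one_apply, Subtype.ext_iff]

theorem rho_sub (c : F) (e : ℕ) (x y : Matrix (Fin N) (Fin N) F) :
    rho d c e (x - y) = rho d c e x - rho d c e y := by
  ext i j; simp [rho, E_sub, Matrix.toSquareBlock_def]

theorem rho_mul (hx : Commute x A) (hy : Commute y A) (c : F) (e : ℕ) :
    rho d c e (x * y) = rho d c e x * rho d c e y := by
  classical
  ext i j
  show E d c (x * y) i.1 j.1 = _
  rw [E_mul d hx, Matrix.mul_apply, Matrix.mul_apply,
    ← Fintype.sum_subtype_add_sum_subtype (fun k : Rt d c => d.e k.1 = e)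
      (fun k => E d c x i.1 k * E d c y k j.1)]
  rw [Finset.sum_eq_zero (s := (Finset.univ : Finset {k : Rt d c // ¬ d.e k.1 = e})) fun k _ => by
    rcases lt_or_gt_of_ne k.2 with h | h
    · rw [E_apply_zero d hx (i.2.symm ▸ h), zero_mul]
    · rw [E_apply_zero d hy (j.2.symm ▸ h), mul_zero], add_zero]
  rfl

theorem bB_mul_rho_adj (hc : Ctx J A) (hx : Commute x A) {c : F} (hc2 : c * c = 1) (e : ℕ) :
    bB d J c e * rho d c e (adj J x) = (rho d c e x)ᵀ * bB d J c e := by
  classical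
  ext ⟨i, hi⟩ ⟨j, hj⟩
  have hx' := hc.commute_adj hx
  -- both sides compute `bf (soc i) (adj x gen j)`
  have h1 : bf J (soc d i) (adj J x *ᵥ gen d j.1) =
      (bB d J c e * rho d c e (adj J x)) ⟨i, hi⟩ ⟨j, hj⟩ := by
    rw [bf_soc d hc hc2, Matrix.mul_apply,
      ← Fintype.sum_subtype_add_sum_subtype (fun k : Rt d c => d.e k.1 = e)
        (fun k => cst d k (d.φ (adj J x *ᵥ gen d j.1) k.1) * pair d J c i k)]
    rw [Finset.sum_eq_zero (s := (Finset.univ : Finset {k : Rt d c // ¬ d.e k.1 = e})) fun k _ => by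
      rcases lt_or_gt_of_ne k.2 with h | h
      · rw [pair_zero d hc hc2 (hi.symm ▸ h), mul_zero]
      · rw [cst_comp_zero d hx' k.1 j.1 (Or.inr (hj.symm ▸ h)), zero_mul], add_zero]
    exact Finset.sum_congr rfl fun k _ => mul_comm _ _
  have h2 : bf J (soc d i) (adj J x *ᵥ gen d j.1) =
      ((rho d c e x)ᵀ * bB d J c e) ⟨i, hi⟩ ⟨j, hj⟩ := by
    rw [← hc.bf_adj, soc, hi, mulVec_mulVec, (commute_aeval hx _).eq, ← mulVec_mulVec]
    obtain ⟨f, hf, hv⟩ := exists_rep d (x *ᵥ gen d i.1)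
    rw [hv, mulVec_sum, bf_sum_left]
    have hterm : ∀ k, bf J (aeval A ((X - C c) ^ (e - 1)) *ᵥ (aeval A (f k) *ᵥ gen d k)) (gen d j.1) =
        (-1) ^ e * ((f k).eval c * bf J (soc d j) (gen d k)) := by
      intro k
      rw [bf_pow hc hc2, show aeval A ((X - C c) ^ (e - 1)) *ᵥ gen d j.1 = soc d j by rw [soc, hj],
        pow_smul_adj_soc d hc hc2, bf_smul_right, hc.bf_swap, bf_soc_aeval d hc hc2]
      conv_rhs => rw [show e = e - 1 + 1 from (Nat.sub_add_cancel (hj ▸ (show 1 ≤ d.e j.1 from (d.item j.1).pos))).symm, pow_succ]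
      ring
    simp only [hterm]
    rw [← Finset.mul_sum, Matrix.mul_apply,
      ← Fintype.sum_subtype_add_sum_subtype (fun k => d.P k = X - C c)
        (fun k => (f k).eval c * bf J (soc d j) (gen d k))]
    rw [Finset.sum_eq_zero (s := (Finset.univ : Finset {k // ¬ d.P k = X - C c})) fun k _ => by
      rw [bf_soc_gen_of_ne d hc hc2 j k.2, mul_zero], add_zero]
    rw [← Fintype.sum_subtype_add_sum_subtype (fun k : Rt d c => d.e k.1 = e)
        (fun k => (f k.1).eval c * bf J (soc d j) (gen d k.1))]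
    rw [Finset.sum_eq_zero (s := (Finset.univ : Finset {k : Rt d c // ¬ d.e k.1 = e})) fun k _ => by
      rcases lt_or_gt_of_ne k.2 with h | h
      · rw [show bf J (soc d j) (gen d k.1.1) = 0 from pair_zero d hc hc2 (hj.symm ▸ h), mul_zero]
      · rw [← cst_mk d k.1 (f k.1.1), hf, cst_comp_zero d hx k.1 i.1 (Or.inr (hi.symm ▸ h)), zero_mul], add_zero,
      Finset.mul_sum]
    refine Finset.sum_congr rfl fun k _ => ?_
    have e1 : (f k.1.1).eval c = E d c x k.1 i := by
      show _ = cst d k.1 (d.φ (x *ᵥ gen d i.1) k.1.1)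
      rw [← hf, cst_mk]
    show _ = E d c x k.1 i * pair d J c k.1 j
    rw [show bf J (soc d j) (gen d k.1.1) = pair d J c j k.1 from rfl, pair_swap d hc hc2 (hj.trans k.2.symm), e1,
      k.2]
    have hsq : ((-1 : F) ^ e) * (-1) ^ e = 1 := by rw [← mul_pow, neg_mul_neg, one_mul, one_pow]
    linear_combination (E d c x k.1 i * pair d J c k.1 j) * hsq
  rw [← h1, h2]

end CfsgLib.ClassCountSp
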