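import Cfsg.Agent.ClassCountSp.Arith
import Cfsg.Agent.ClassCountU.Data

set_option autoImplicit false

/-!
The sets which the classes of the symplectic group are encoded into, and their size: for every level `k` four bits
and a self-reciprocal polynomial of even degree with constant term one.
-/

namespace CfsgLib.ClassCountSp

open Polynomial CfsgLib.SemisimpleSU CfsgLib.ClassCountU

variable {F : Type*} [Field F]

/-- The monic self-reciprocal polynomials of degree `2 d` with constant term one. -/
def selfRec (F : Type*) [Field F] (d : ℕ) : Set F[X] :=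
  {f | f.Monic ∧ f.natDegree = 2 * d ∧ f.coeff 0 = 1 ∧ SemisimpleSU.star (RingHom.id F) f = f}

/-- One level of the encoding. -/
abbrev Lvl (F : Type*) [Field F] : Type _ := (Fin 4 → Bool) × F[X]

/-- The empty level. -/
noncomputable def dflt (F : Type*) [Field F] : Lvl F := (fun _ => false, 1)

/-- The weight of a level. -/
noncomputable def wt (x : Lvl F) : ℕ := (Finset.univ.filter fun j => x.1 j = true).card + x.2.natDegree / 2

/-- An admissible level. -/
def Valid (x : Lvl F) : Prop := ∃ d, x.2 ∈ selfRec F d

/-- The admissible levels of weight `D`. -/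
def lvlSet (F : Type*) [Field F] (D : ℕ) : Set (Lvl F) := {x | Valid x ∧ wt x = D}

theorem valid_dflt : Valid (dflt F) := ⟨0, monic_one, by simp [dflt], by simp [dflt], star_one⟩

theorem wt_dflt : wt (dflt F) = 0 := by simp [wt, dflt]

theorem eq_dflt_of_wt {x : Lvl F} (hx : Valid x) (h : wt x = 0) : x = dflt F := by
  obtain ⟨d, hm, hd, -, -⟩ := hx
  unfold wt at h
  refine Prod.ext (funext fun j => ?_) (hm.natDegree_eq_zero.1 (by omega))
  have h1 : (Finset.univ.filter fun j => x.1 j = true) = ∅ := Finset.card_eq_zero.1 (by omega)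
  by_contra hne
  have : x.1 j = true := by simpa [dflt] using hne
  exact Finset.notMem_empty j (h1 ▸ Finset.mem_filter.2 ⟨Finset.mem_univ _, this⟩)

variable [Fintype F]

theorem card_selfRec_le (d : ℕ) : Finite (selfRec F d) ∧ Nat.card (selfRec F d) ≤ Fintype.card F ^ d := by
  have hext : Function.Injective fun (f : selfRec F d) (j : Fin d) => f.1.coeff (j.1 + 1) := by
    intro f g e
    refine Subtype.ext (Polynomial.ext fun k => ?_)
    have hlow : ∀ m, 1 ≤ m → m ≤ d → f.1.coeff m = g.1.coeff m := by
      intro m h1 h2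
      have := congrFun e ⟨m - 1, by omega⟩
      simpa [Nat.sub_add_cancel h1] using this
    have key : ∀ h : selfRec F d, ∀ m, m ≤ 2 * d → h.1.coeff m = h.1.coeff (2 * d - m) := by
      intro h m hm
      have h1 := coeff_of_star h.2.2.2.2 (k := m) (by rw [h.2.2.1]; exact hm)
      rwa [h.2.2.1, h.2.2.2.1, map_one, inv_one, one_mul, RingHom.id_apply] at h1
    rcases Nat.eq_zero_or_pos k with rfl | hk
    · rw [f.2.2.2.1, g.2.2.2.1]
    rcases le_or_gt k d with h2 | h2
    · exact hlow k hk h2
    rcases le_or_gt k (2 * d) with h3 | h3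
    · rw [key f k h3, key g k h3]
      rcases Nat.eq_zero_or_pos (2 * d - k) with h4 | h4
      · rw [h4, f.2.2.2.1, g.2.2.2.1]
      · exact hlow _ h4 (by omega)
    · rw [coeff_eq_zero_of_natDegree_lt (by rw [f.2.2.1]; exact h3),
        coeff_eq_zero_of_natDegree_lt (by rw [g.2.2.1]; exact h3)]
  refine ⟨Finite.of_injective _ hext, (Nat.card_le_card_of_injective _ hext).trans (le_of_eq ?_)⟩
  rw [Nat.card_fun, Nat.card_fin, Nat.card_eq_fintype_card]

theorem card_lvlSet_le (D : ℕ) : Finite (lvlSet F D) ∧ Nat.card (lvlSet F D) ≤ c (Fintype.card F) D := by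
  classical
  haveI : ∀ d, Finite (selfRec F d) := fun d => (card_selfRec_le d).1
  let B : Finset (Fin 4 → Bool) := Finset.univ.filter fun b => (Finset.univ.filter fun j => b j = true).card ≤ D
  let T := Σ b : B, selfRec F (D - (Finset.univ.filter fun j => b.1 j = true).card)
  let f : lvlSet F D → T := fun x => ⟨⟨x.1.1, Finset.mem_filter.2 ⟨Finset.mem_univ _, by
      have := x.2.2; unfold wt at this; omega⟩⟩,
    ⟨x.1.2, by
      obtain ⟨d, hm, hd, h0, hs⟩ := x.2.1
      refine ⟨hm, ?_, h0, hs⟩
      have := x.2.2; unfold wt at this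
      show x.1.2.natDegree = 2 * (D - (Finset.univ.filter fun j => x.1.1 j = true).card)
      omega⟩⟩
  have hf : Function.Injective f := fun x y e => Subtype.ext (Prod.ext
    (congrArg (fun z : T => z.1.1) e) (congrArg (fun z : T => (z.2 : F[X])) e))
  refine ⟨Finite.of_injective f hf, (Nat.card_le_card_of_injective f hf).trans ?_⟩
  rw [Nat.card_sigma]
  refine (Finset.sum_le_sum fun b _ => (card_selfRec_le _).2).trans (le_of_eq ?_)
  set q := Fintype.card F
  rw [Finset.sum_coe_sort B fun b => q ^ (D - (Finset.univ.filter fun j => b j = true).card), c]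
  have hfib := Finset.sum_fiberwise_of_maps_to (s := B) (t := Finset.range 5)
    (g := fun b : Fin 4 → Bool => (Finset.univ.filter fun j => b j = true).card)
    (fun b _ => Finset.mem_range.2 (Nat.lt_succ_of_le ((Finset.card_filter_le _ _).trans (by simp))))
    (fun b => q ^ (D - (Finset.univ.filter fun j => b j = true).card))
  rw [← hfib]
  refine Finset.sum_congr rfl fun j hj => ?_
  rw [Finset.sum_congr rfl fun b hb => by rw [(Finset.mem_filter.1 hb).2], Finset.sum_const, smul_eq_mul]
  split_ifs with h
  · congr 1
    have hB : (B.filter fun b => (Finset.univ.filter fun i => b i = true).card = j) =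
        Finset.univ.filter fun b : Fin 4 → Bool => (Finset.univ.filter fun i => b i = true).card = j := by
      ext b; simp only [B, Finset.mem_filter, Finset.mem_univ, true_and]; omega
    rw [hB]
    rw [Finset.mem_range] at hj
    interval_cases j <;> decide
  · have hB : (B.filter fun b => (Finset.univ.filter fun i => b i = true).card = j) = ∅ := by
      ext b; simp only [B, Finset.mem_filter, Finset.mem_univ, true_and, Finset.notMem_empty, iff_false]; omega
    rw [hB, Finset.card_empty, zero_mul]

/-- Encodings of weight `m`, trivial below level `i`. -/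
def encSet (F : Type*) [Field F] (N i m : ℕ) : Set (Fin (N + 1) → Lvl F) :=
  {g | (∀ k, Valid (g k)) ∧ (∀ k : Fin (N + 1), k.1 < i → g k = dflt F) ∧ ∑ k, k.1 * wt (g k) = m}

theorem card_encSet_le (N : ℕ) : ∀ (r i m : ℕ), 1 ≤ i → N + 1 - i ≤ r →
    Finite (encSet F N i m) ∧ Nat.card (encSet F N i m) ≤ W (Fintype.card F) i m := by
  intro r
  induction r with
  | zero =>
    intro i m hi hr
    have hsub : ∀ g ∈ encSet F N i m, g = fun _ => dflt F := fun g hg =>
      funext fun k => hg.2.1 k (by have := k.2; omega)
    haveI : Subsingleton (encSet F N i m) := ⟨fun g g' => Subtype.ext ((hsub _ g.2).trans (hsub _ g'.2).symm)⟩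
    refine ⟨inferInstance, ?_⟩
    rcases Nat.eq_zero_or_pos m with rfl | hm
    · rw [W_zero]; exact Finite.card_le_one_iff_subsingleton.2 inferInstance
    · haveI : IsEmpty (encSet F N i m) := ⟨fun g => by
        have := g.2.2.2
        rw [hsub _ g.2] at this
        simp [wt_dflt] at this
        omega⟩
      simp
  | succ r ih =>
    intro i m hi hr
    by_cases hiN : N + 1 ≤ i
    · exact ⟨(ih i m hi (by omega)).1, (ih i m hi (by omega)).2⟩
    set k₀ : Fin (N + 1) := ⟨i, by omega⟩ with hk₀
    haveI : ∀ d : Fin (m / i + 1), Finite (lvlSet F d.1) := fun d => (card_lvlSet_le d.1).1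
    haveI : ∀ d : Fin (m / i + 1), Finite (encSet F N (i + 1) (m - d.1 * i)) := fun d =>
      (ih (i + 1) _ (by omega) (by omega)).1
    have hsum : ∀ g : encSet F N i m,
        i * wt (g.1 k₀) + ∑ k, k.1 * wt (Function.update g.1 k₀ (dflt F) k) = m := by
      intro g
      conv_rhs => rw [← g.2.2.2]
      rw [← Finset.add_sum_erase _ (fun k => k.1 * wt (g.1 k)) (Finset.mem_univ k₀),
        ← Finset.add_sum_erase _ (fun k => k.1 * wt (Function.update g.1 k₀ (dflt F) k)) (Finset.mem_univ k₀),
        Function.update_self, wt_dflt, mul_zero, zero_add]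
      congr 1
      exact Finset.sum_congr rfl fun k hk => by rw [Function.update_of_ne (Finset.ne_of_mem_erase hk)]
    have hd : ∀ g : encSet F N i m, wt (g.1 k₀) < m / i + 1 := fun g =>
      Nat.lt_succ_iff.2 ((Nat.le_div_iff_mul_le (by omega)).2 (by have := hsum g; rw [mul_comm]; omega))
    let f : encSet F N i m → Σ d : Fin (m / i + 1), lvlSet F d.1 × encSet F N (i + 1) (m - d.1 * i) := fun g =>
      ⟨⟨_, hd g⟩, ⟨g.1 k₀, g.2.1 k₀, rfl⟩, ⟨Function.update g.1 k₀ (dflt F),
        fun k => by
          rcases eq_or_ne k k₀ with rfl | h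
          · rw [Function.update_self]; exact valid_dflt
          · rw [Function.update_of_ne h]; exact g.2.1 k,
        fun k hk => by
          rcases eq_or_ne k k₀ with rfl | h
          · rw [Function.update_self]
          · rw [Function.update_of_ne h]
            exact g.2.2.1 k (by
              have : k.1 ≠ i := fun e => h (Fin.ext e)
              omega),
        by show _ = m - wt (g.1 k₀) * i; have := hsum g; rw [mul_comm (wt (g.1 k₀))]; omega⟩⟩
    have hf : Function.Injective f := by
      intro g g' e
      apply Subtype.ext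
      funext k
      rcases eq_or_ne k k₀ with rfl | h
      · exact congrArg (fun z : Σ d : Fin (m / i + 1), lvlSet F d.1 × encSet F N (i + 1) (m - d.1 * i) =>
          (z.2.1 : Lvl F)) e
      · have := congrFun (congrArg (fun z : Σ d : Fin (m / i + 1), lvlSet F d.1 × encSet F N (i + 1) (m - d.1 * i) =>
          (z.2.2 : Fin (N + 1) → Lvl F)) e) k
        simp only [f, Function.update_of_ne h] at this
        exact this
    refine ⟨Finite.of_injective f hf, (Nat.card_le_card_of_injective f hf).trans ?_⟩
    rw [Nat.card_sigma, W_rec hi, Finset.sum_range]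
    exact Finset.sum_le_sum fun d _ => by
      rw [Nat.card_prod]
      exact Nat.mul_le_mul (card_lvlSet_le d.1).2 (ih (i + 1) _ (by omega) (by omega)).2

end CfsgLib.ClassCountSp
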