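import Cfsg.Agent.ClassCountSp.Coord
import Cfsg.Agent.ClassCountSp.Congr

set_option autoImplicit false
set_option linter.style.haveILetI false

/-!
Elements of the centraliser with prescribed multiplicity matrices.
-/

namespace CfsgLib.ClassCountSp

open Polynomial Matrix CfsgLib.InvNorm
open CfsgLib.ClassCount (Item IsItem Decomp)
open scoped Classical

variable {F : Type*} [Field F] {N : ℕ} {J A : Matrix (Fin N) (Fin N) F} (d : Decomp A)

/-- A map of the centraliser is given by the images of the generators. -/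
theorem exists_genMap (u : Fin d.k → (Fin N → F)) (hu : ∀ j, aeval A (d.P j ^ d.e j) *ᵥ u j = 0) :
    ∃ x : Matrix (Fin N) (Fin N) F, Commute x A ∧ ∀ j, x *ᵥ gen d j = u j := by
  have hm : ∀ j, (d.P j ^ d.e j).Monic := fun j => (d.item j).monic.pow _
  let L : (Fin N → F) →ₗ[F] (Fin N → F) :=
    { toFun := fun v => ∑ j, aeval A (AdjoinRoot.modByMonicHom (hm j) (d.φ v j)) *ᵥ u j
      map_add' := fun v w => by simp [add_mulVec, Finset.sum_add_distrib]
      map_smul' := fun r v => by simp [smul_mulVec, Finset.smul_sum] }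
  have key : ∀ (f : Fin d.k → F[X]) (v : Fin N → F), (∀ j, AdjoinRoot.mk _ (f j) = d.φ v j) →
      L v = ∑ j, aeval A (f j) *ᵥ u j := by
    intro f v hf
    show ∑ j, aeval A (AdjoinRoot.modByMonicHom (hm j) (d.φ v j)) *ᵥ u j = _
    refine Finset.sum_congr rfl fun j _ => ?_
    rw [← hf, AdjoinRoot.modByMonicHom_mk]
    conv_rhs => rw [← modByMonic_add_div (f j) (d.P j ^ d.e j)]
    rw [map_add, add_mulVec, mul_comm (d.P j ^ d.e j), map_mul, ← mulVec_mulVec, hu, mulVec_zero, add_zero]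
  refine ⟨LinearMap.toMatrix' L, ?_, fun j => ?_⟩
  · show _ * A = A * _
    refine Matrix.ext_iff_mulVec.2 fun v => ?_
    obtain ⟨f, hf, -⟩ := exists_rep d v
    rw [← mulVec_mulVec, ← mulVec_mulVec, LinearMap.toMatrix'_mulVec, LinearMap.toMatrix'_mulVec,
      key (fun j => X * f j) (A *ᵥ v) fun j => by rw [map_mul, AdjoinRoot.mk_X, hf, d.map_mulVec],
      key f v hf, mulVec_sum]
    refine Finset.sum_congr rfl fun j _ => ?_
    rw [map_mul, aeval_X, ← mulVec_mulVec]
  · rw [LinearMap.toMatrix'_mulVec, key (fun k => if k = j then 1 else 0) (gen d j) fun k => by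
      rw [φ_gen]
      rcases eq_or_ne k j with rfl | h
      · simp
      · rw [if_neg h, map_zero, Pi.single_eq_of_ne h]]
    rw [Finset.sum_eq_single j]
    · simp
    · intro k _ hk; simp [hk]
    · simp

theorem ext_gen {x y : Matrix (Fin N) (Fin N) F} (hx : Commute x A) (hy : Commute y A)
    (h : ∀ j, x *ᵥ gen d j = y *ᵥ gen d j) : x = y := by
  refine Matrix.ext_iff_mulVec.2 fun v => ?_
  obtain ⟨f, -, hv⟩ := exists_rep d v
  rw [hv, mulVec_sum, mulVec_sum]
  refine Finset.sum_congr rfl fun j _ => ?_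
  rw [mulVec_mulVec, mulVec_mulVec, (commute_aeval hx _).eq, (commute_aeval hy _).eq, ← mulVec_mulVec,
    ← mulVec_mulVec, h]

/-- The indices of one block. -/
abbrev Blk (c : F) (e : ℕ) : Type := {i : Rt d c // d.e i.1 = e}

/-- Images of the generators under a block matrix. -/
noncomputable def blockImg (c : F) (e : ℕ) (m : Matrix (Blk d c e) (Blk d c e) F) (j : Fin d.k) : Fin N → F :=
  if h : d.P j = X - C c ∧ d.e j = e then ∑ i, m i ⟨⟨j, h.1⟩, h.2⟩ • gen d i.1.1 else gen d j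

theorem blockImg_blk {c : F} {e : ℕ} (m : Matrix (Blk d c e) (Blk d c e) F) (j : Blk d c e) :
    blockImg d c e m j.1.1 = ∑ i, m i j • gen d i.1.1 := by
  rw [blockImg, dif_pos ⟨j.1.2, j.2⟩]

theorem exists_block_map (c : F) (e : ℕ) (m : Matrix (Blk d c e) (Blk d c e) F) :
    ∃ x : Matrix (Fin N) (Fin N) F, Commute x A ∧ ∀ j, x *ᵥ gen d j = blockImg d c e m j := by
  refine exists_genMap d _ fun j => ?_
  by_cases h : d.P j = X - C c ∧ d.e j = e
  · rw [blockImg, dif_pos h, mulVec_sum]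
    refine Finset.sum_eq_zero fun i _ => ?_
    rw [mulVec_smul, show d.P j ^ d.e j = d.P i.1.1 ^ d.e i.1.1 by rw [h.1, h.2, i.1.2, i.2], aeval_ann, smul_zero]
  · rw [blockImg, dif_neg h]
    exact aeval_ann d j

theorem block_map_mul {c : F} {e : ℕ} {m m' : Matrix (Blk d c e) (Blk d c e) F} (hm : m * m' = 1)
    {x y : Matrix (Fin N) (Fin N) F} (hx : Commute x A) (hy : Commute y A)
    (hxg : ∀ j, x *ᵥ gen d j = blockImg d c e m j) (hyg : ∀ j, y *ᵥ gen d j = blockImg d c e m' j) :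
    x * y = 1 := by
  refine ext_gen d (hx.mul_left hy) (Commute.one_left A) fun j => ?_
  rw [← mulVec_mulVec, hyg, one_mulVec]
  by_cases h : d.P j = X - C c ∧ d.e j = e
  · rw [blockImg, dif_pos h, mulVec_sum]
    simp only [mulVec_smul, hxg, blockImg_blk, Finset.smul_sum, smul_smul]
    rw [Finset.sum_comm]
    simp only [← Finset.sum_smul]
    have hmm : ∀ k, ∑ i, m' i ⟨⟨j, h.1⟩, h.2⟩ * m k i = (1 : Matrix (Blk d c e) (Blk d c e) F) k ⟨⟨j, h.1⟩, h.2⟩ := by
      intro k
      rw [← hm, Matrix.mul_apply]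
      exact Finset.sum_congr rfl fun i _ => mul_comm _ _
    simp only [hmm]
    rw [Finset.sum_eq_single (⟨⟨j, h.1⟩, h.2⟩ : Blk d c e)]
    · rw [Matrix.one_apply_eq, one_smul]
    · intro k _ hk; rw [Matrix.one_apply_ne hk, zero_smul]
    · simp
  · rw [blockImg, dif_neg h, hxg, blockImg, dif_neg h]

theorem rho_block_self {c : F} {e : ℕ} {m : Matrix (Blk d c e) (Blk d c e) F} {x : Matrix (Fin N) (Fin N) F}
    (hxg : ∀ j, x *ᵥ gen d j = blockImg d c e m j) : rho d c e x = m := by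
  ext i j
  show cst d i.1 (d.φ (x *ᵥ gen d j.1.1) i.1.1) = m i j
  rw [hxg, blockImg_blk, map_sum, Finset.sum_apply, Finset.sum_eq_single i]
  · rw [map_smul, Pi.smul_apply, φ_gen, Pi.single_eq_same, map_smul, map_one, smul_eq_mul, mul_one]
  · intro k _ hk
    rw [map_smul, Pi.smul_apply, φ_gen,
      Pi.single_eq_of_ne (fun h => hk (Subtype.ext (Subtype.ext h.symm))), smul_zero]
  · simp

theorem rho_block_ne {c : F} {e : ℕ} {m : Matrix (Blk d c e) (Blk d c e) F} {x : Matrix (Fin N) (Fin N) F}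
    (hxg : ∀ j, x *ᵥ gen d j = blockImg d c e m j) {c' : F} {e' : ℕ} (hne : (c', e') ≠ (c, e)) :
    rho d c' e' x = 1 := by
  have hfix : ∀ j : Blk d c' e', x *ᵥ gen d j.1.1 = (1 : Matrix (Fin N) (Fin N) F) *ᵥ gen d j.1.1 := by
    intro j
    rw [hxg, blockImg, dif_neg, one_mulVec]
    rintro ⟨h1, h2⟩
    refine hne (Prod.ext ?_ (j.2.symm.trans h2))
    have h := congrArg (eval c) (j.1.2.symm.trans h1)
    rw [eval_sub, eval_sub, eval_X, eval_C, eval_C, sub_self, sub_eq_zero] at h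
    exact h.symm
  rw [← rho_one d c' e']
  ext i j
  show cst d i.1 (d.φ (x *ᵥ gen d j.1.1) i.1.1) = cst d i.1 (d.φ (1 *ᵥ gen d j.1.1) i.1.1)
  rw [hfix]

/-- An invertible element of the centraliser with one prescribed block. -/
theorem exists_lift (c : F) (e : ℕ) (m : Matrix (Blk d c e) (Blk d c e) F) (hm : m.det ≠ 0) :
    ∃ x : Matrix (Fin N) (Fin N) F, IsUnit x ∧ Commute x A ∧ rho d c e x = m ∧
      ∀ c' e', (c', e') ≠ (c, e) → rho d c' e' x = 1 := by
  obtain ⟨x, hx, hxg⟩ := exists_block_map d c e m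
  obtain ⟨y, hy, hyg⟩ := exists_block_map d c e m⁻¹
  exact ⟨x, IsUnit.of_mul_eq_one y (block_map_mul d (Matrix.mul_nonsing_inv _ (isUnit_iff_ne_zero.2 hm)) hx hy hxg hyg),
    hx, rho_block_self d hxg, fun c' e' h => rho_block_ne d hxg h⟩

/-- Any family of invertible blocks is realised by an invertible element of the centraliser. -/
theorem exists_lift_all (S : Finset (F × ℕ)) (m : ∀ c e, Matrix (Blk d c e) (Blk d c e) F)
    (hm : ∀ p ∈ S, (m p.1 p.2).det ≠ 0) :
    ∃ x : Matrix (Fin N) (Fin N) F, IsUnit x ∧ Commute x A ∧ (∀ p ∈ S, rho d p.1 p.2 x = m p.1 p.2) ∧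
      ∀ c e, (c, e) ∉ S → rho d c e x = 1 := by
  induction S using Finset.induction_on with
  | empty => exact ⟨1, isUnit_one, Commute.one_left A, by simp, fun c e _ => rho_one d c e⟩
  | insert p S hp ih =>
    obtain ⟨x, hxu, hxc, hxS, hx1⟩ := ih fun q hq => hm q (Finset.mem_insert_of_mem hq)
    obtain ⟨y, hyu, hyc, hym, hy1⟩ := exists_lift d p.1 p.2 (m p.1 p.2) (hm p (Finset.mem_insert_self p S))
    refine ⟨x * y, hxu.mul hyu, hxc.mul_left hyc, fun q hq => ?_, fun c e hce => ?_⟩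
    · rw [rho_mul d hxc hyc]
      rcases Finset.mem_insert.1 hq with rfl | hq
      · rw [hx1 _ _ hp, one_mul, hym]
      · rw [hy1 q.1 q.2 (fun h => hp (by rwa [show q = p from h] at hq)), mul_one, hxS q hq]
    · rw [rho_mul d hxc hyc, hx1 c e (fun h => hce (Finset.mem_insert_of_mem h)),
        hy1 c e (fun h => hce (h ▸ Finset.mem_insert_self p S)), one_mul]

theorem det_rho_ne {x : Matrix (Fin N) (Fin N) F} (hxu : IsUnit x) (hx : Commute x A) (c : F) (e : ℕ) :
    (rho d c e x).det ≠ 0 := by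
  obtain ⟨u, rfl⟩ := hxu
  have h : rho d c e (u : Matrix (Fin N) (Fin N) F) * rho d c e (↑u⁻¹) = 1 := by
    rw [← rho_mul d hx hx.units_inv_left, Units.mul_inv, rho_one]
  exact Matrix.det_ne_zero_of_right_inverse h

/-- The form on a block twisted by a symmetric element. -/
theorem form_transpose (hc : Ctx J A) {c : F} (hc2 : c * c = 1) (e : ℕ) {h : Matrix (Fin N) (Fin N) F}
    (hh : Commute h A) (hs : adj J h = h) :
    (bB d J c e * rho d c e h)ᵀ = (-1 : F) ^ e • (bB d J c e * rho d c e h) := by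
  rw [transpose_mul, bB_transpose d hc hc2, mul_smul_comm, ← bB_mul_rho_adj d hc hh hc2, hs]

/-- The multiplicity of `(X - c)^e` with `e` odd is even. -/
theorem even_card_odd (hc : Ctx J A) {c : F} (hc2 : c * c = 1) {e : ℕ} (he : Odd e) :
    Even (Fintype.card (Blk d c e)) :=
  even_card_alt hc.h2 (bB d J c e) (by rw [bB_transpose d hc hc2, he.neg_one_pow, neg_one_smul]) (bB_det_ne d hc hc2 e)

/-- Symmetric elements with block determinants in the same square classes can be matched on all blocks. -/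
theorem exists_match [Fintype F] (hc : Ctx J A) {h1 h2 : Matrix (Fin N) (Fin N) F} (hu1 : IsUnit h1) (hu2 : IsUnit h2)
    (hc1 : Commute h1 A) (hc2' : Commute h2 A) (hs1 : adj J h1 = h1) (hs2 : adj J h2 = h2)
    (hsq : ∀ c : F, c * c = 1 → ∀ e, Even e →
      IsSquare ((bB d J c e * rho d c e h1).det * (bB d J c e * rho d c e h2).det)) :
    ∃ w : Matrix (Fin N) (Fin N) F, IsUnit w ∧ Commute w A ∧
      ∀ c : F, c * c = 1 → ∀ e, rho d c e (adj J w * h1 * w) = rho d c e h2 := by
  have hex : ∀ c e, ∃ m : Matrix (Blk d c e) (Blk d c e) F, m.det ≠ 0 ∧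
      (c * c = 1 → mᵀ * (bB d J c e * rho d c e h1) * m = bB d J c e * rho d c e h2) := by
    intro c e
    by_cases hcc : c * c = 1
    · have hd1 : (bB d J c e * rho d c e h1).det ≠ 0 := by
        rw [det_mul]; exact mul_ne_zero (bB_det_ne d hc hcc e) (det_rho_ne d hu1 hc1 c e)
      have hd2 : (bB d J c e * rho d c e h2).det ≠ 0 := by
        rw [det_mul]; exact mul_ne_zero (bB_det_ne d hc hcc e) (det_rho_ne d hu2 hc2' c e)
      have t1 := form_transpose d hc hcc e hc1 hs1
      have t2 := form_transpose d hc hcc e hc2' hs2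
      rcases Nat.even_or_odd e with he | he
      · rw [he.neg_one_pow, one_smul] at t1 t2
        obtain ⟨m, hm⟩ := exists_congr_symm hc.h2 _ _ t1 t2 hd1 hd2 (hsq c hcc e he)
        exact ⟨m, det_ne_of_congr hd2 hm, fun _ => hm⟩
      · rw [he.neg_one_pow, neg_one_smul] at t1 t2
        obtain ⟨m, hm⟩ := exists_congr_alt hc.h2 _ _ t1 t2 hd1 hd2
        exact ⟨m, det_ne_of_congr hd2 hm, fun _ => hm⟩
    · exact ⟨1, by simp, fun h => absurd h hcc⟩
  choose m hm0 hm using hex
  obtain ⟨w, hwu, hwc, hwS, -⟩ := exists_lift_all d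
    (({1, -1} : Finset F) ×ˢ Finset.univ.image d.e) m (fun p _ => hm0 p.1 p.2)
  refine ⟨w, hwu, hwc, fun c hcc e => ?_⟩
  by_cases he : e ∈ Finset.univ.image d.e
  · have hmem : (c, e) ∈ (({1, -1} : Finset F) ×ˢ Finset.univ.image d.e) := by
      rw [Finset.mem_product, Finset.mem_insert, Finset.mem_singleton]
      exact ⟨mul_self_eq_one_iff.1 hcc, he⟩
    have hwa := hc.commute_adj hwc
    have hbu : IsUnit (bB d J c e) :=
      (Matrix.isUnit_iff_isUnit_det _).2 (isUnit_iff_ne_zero.2 (bB_det_ne d hc hcc e))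
    refine hbu.mul_left_cancel ?_
    rw [rho_mul d (hwa.mul_left hc1) hwc, rho_mul d hwa hc1, ← mul_assoc, ← mul_assoc,
      bB_mul_rho_adj d hc hwc hcc, hwS (c, e) hmem, mul_assoc ((m c e)ᵀ), hm c e hcc]
  · haveI : IsEmpty (Blk d c e) := ⟨fun i => he (Finset.mem_image.2 ⟨i.1.1, Finset.mem_univ _, i.2⟩)⟩
    exact Subsingleton.elim _ _

end CfsgLib.ClassCountSp
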